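import Mathlib.GroupTheory.Sylow
import Mathlib.GroupTheory.Index
import Mathlib.GroupTheory.GroupAction.Quotient
import Cfsg.Prelude.Def_Solvable

/-!
Elementary (character-free) facts on Frobenius complements and Frobenius kernels as sets.
-/

set_option autoImplicit false
set_option linter.style.haveILetI false

namespace CfsgLib.Frobenius

open Subgroup MulAction
open scoped Pointwise

variable {G : Type*} [Group G]

/-- Membership in a conjugate, in the form used here. -/
theorem mem_conj_iff {H : Subgroup G} {g x : G} :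
    x ∈ MulAut.conj g • H ↔ g⁻¹ * x * g ∈ H := by
  rw [Subgroup.mem_pointwise_smul_iff_inv_smul_mem, ← map_inv, MulAut.smul_def,
    MulAut.conj_apply, inv_inv]

/-- If `x ∈ H` is nontrivial and `g⁻¹ x g ∈ H`, then `g ∈ H`. -/
theorem mem_of_conj_mem {H : Subgroup G} (hH : Cfsg.IsFrobeniusComplement H) {g x : G}
    (hx : x ≠ 1) (hxH : x ∈ H) (hg : g⁻¹ * x * g ∈ H) : g ∈ H := by
  by_contra h
  have hm : x ∈ H ⊓ (MulAut.conj g • H) := ⟨hxH, mem_conj_iff.2 hg⟩
  rw [hH.2.2 g h, Subgroup.mem_bot] at hm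
  exact hx hm

/-- A nontrivial element lies in at most one conjugate of a Frobenius complement. -/
theorem inv_mul_mem_of_mem_conj {H : Subgroup G} (hH : Cfsg.IsFrobeniusComplement H) {g h x : G}
    (hx : x ≠ 1) (h1 : g⁻¹ * x * g ∈ H) (h2 : h⁻¹ * x * h ∈ H) : g⁻¹ * h ∈ H := by
  refine mem_of_conj_mem hH (x := g⁻¹ * x * g) (fun e => hx ?_) h1 (by simpa [mul_assoc] using h2)
  have := congrArg (fun w => g * w * g⁻¹) e
  simpa [mul_assoc] using this

theorem exists_ne_one {H : Subgroup G} (hH : Cfsg.IsFrobeniusComplement H) :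
    ∃ x ∈ H, x ≠ 1 := (Subgroup.ne_bot_iff_exists_ne_one.1 hH.1).elim
      fun x hx => ⟨x, x.2, fun e => hx (Subtype.ext e)⟩

/-- A Frobenius complement is self-normalizing. -/
theorem normalizer_eq {H : Subgroup G} (hH : Cfsg.IsFrobeniusComplement H) :
    Subgroup.normalizer (H : Set G) = H := by
  refine le_antisymm (fun g hg => ?_) le_normalizer
  obtain ⟨x, hx, hx1⟩ := exists_ne_one hH
  exact mem_of_conj_mem hH hx1 hx ((Subgroup.mem_normalizer_iff''.1 hg x).1 hx)

/-- The centralizer of a nontrivial element of a Frobenius complement lies in it. -/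
theorem centralizer_le {H : Subgroup G} (hH : Cfsg.IsFrobeniusComplement H) {x : G}
    (hxH : x ∈ H) (hx : x ≠ 1) : Subgroup.centralizer ({x} : Set G) ≤ H := by
  intro g hg
  refine mem_of_conj_mem hH hx hxH ?_
  rw [Subgroup.mem_centralizer_singleton_iff] at hg
  rwa [mul_assoc, ← hg, inv_mul_cancel_left]

theorem conj {H : Subgroup G} (hH : Cfsg.IsFrobeniusComplement H) (a : G) :
    Cfsg.IsFrobeniusComplement (MulAut.conj a • H) := by
  refine ⟨fun h => hH.1 ?_, fun h => hH.2.1 ?_, fun g hg => ?_⟩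
  · simpa using congrArg (fun K => (MulAut.conj a)⁻¹ • K) h
  · refine (Subgroup.eq_top_iff' H).2 fun x => ?_
    have hm : a * x * a⁻¹ ∈ MulAut.conj a • H := by rw [h]; trivial
    rw [mem_conj_iff] at hm
    simpa [mul_assoc] using hm
  · rw [eq_bot_iff]
    rintro x ⟨hx1, hx2⟩
    by_contra hx
    rw [Subgroup.mem_bot] at hx
    have hx2' := mem_conj_iff.1 hx2
    rw [mem_conj_iff] at hx2'
    refine hg ?_
    rw [mem_conj_iff]
    have := inv_mul_mem_of_mem_conj hH hx (g := a) (h := g * a) (mem_conj_iff.1 hx1)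
      (by simpa [mul_assoc] using hx2')
    simpa [mul_assoc] using this

variable [Finite G]

/-- `[G : H] ≡ 1 (mod |H|)`. -/
theorem index_modEq_one {H : Subgroup G} (hH : Cfsg.IsFrobeniusComplement H) :
    H.index ≡ 1 [MOD Nat.card H] := by
  classical
  haveI := Fintype.ofFinite G
  haveI := Fintype.ofFinite H
  haveI := Fintype.ofFinite (G ⧸ H)
  haveI := Fintype.ofFinite (Quotient (orbitRel H (G ⧸ H)))
  have hfix : ∀ h : H, h ≠ 1 → fixedBy (G ⧸ H) h = {((1 : G) : G ⧸ H)} := by
    intro h hh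
    ext c
    induction c using QuotientGroup.induction_on with
    | H g =>
      rw [mem_fixedBy, Set.mem_singleton_iff]
      show ((((h : G) * g : G)) : G ⧸ H) = (g : G ⧸ H) ↔ _
      rw [QuotientGroup.eq, QuotientGroup.eq, mul_one]
      simp only [mul_inv_rev]
      constructor
      · intro hm
        have hm' := H.inv_mem hm
        simp only [mul_inv_rev, inv_inv, ← mul_assoc] at hm'
        exact H.inv_mem (mem_of_conj_mem hH (fun e => hh (Subtype.ext e)) h.2 hm')
      · intro hg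
        exact mul_mem (mul_mem hg (inv_mem h.2)) (inv_mem_iff.1 hg)
  have hsum := sum_card_fixedBy_eq_card_orbits_mul_card_group H (G ⧸ H)
  rw [← Finset.add_sum_erase _ _ (Finset.mem_univ (1 : H))] at hsum
  rw [Finset.sum_congr rfl (fun h hh => (by
    simp only [← Nat.card_eq_fintype_card, hfix h (Finset.ne_of_mem_erase hh)]; simp :
      Fintype.card (fixedBy (G ⧸ H) h) = 1))] at hsum
  simp only [Finset.sum_const, Finset.card_erase_of_mem (Finset.mem_univ _), Finset.card_univ,
    smul_eq_mul, mul_one, ← Nat.card_eq_fintype_card] at hsum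
  have h1 : Nat.card (fixedBy (G ⧸ H) (1 : H)) = H.index := by
    rw [show fixedBy (G ⧸ H) (1 : H) = Set.univ from Set.eq_univ_of_forall fun c => one_smul _ c,
      Nat.card_univ]; rfl
  rw [h1] at hsum
  have hpos : 1 ≤ Nat.card H := Nat.card_pos
  have e : H.index + Nat.card H = Nat.card (Quotient (orbitRel H (G ⧸ H))) * Nat.card H + 1 := by
    omega
  have := congrArg (· % Nat.card H) e
  simpa [Nat.ModEq, Nat.add_mod] using this

theorem one_lt_index {H : Subgroup G} (hH : Cfsg.IsFrobeniusComplement H) : 1 < H.index :=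
  Subgroup.one_lt_index_of_ne_top hH.2.1

theorem coprime_card_index {H : Subgroup G} (hH : Cfsg.IsFrobeniusComplement H) :
    (Nat.card H).Coprime H.index := by
  refine Nat.coprime_of_dvd fun p hp h1 h2 => hp.ne_one ?_
  have h := (index_modEq_one hH).of_dvd h1
  exact Nat.dvd_one.1 ((h.dvd_iff dvd_rfl).1 h2)

theorem card_lt_index {H : Subgroup G} (hH : Cfsg.IsFrobeniusComplement H) :
    Nat.card H < H.index := by
  have h1 := one_lt_index hH
  obtain ⟨k, hk⟩ := (Nat.modEq_iff_dvd' h1.le).1 (index_modEq_one hH).symm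
  rcases k with _ | k
  · omega
  · have : Nat.card H ≤ Nat.card H * (k + 1) := Nat.le_mul_of_pos_right _ k.succ_pos
    omega

/-- The nontrivial elements of the conjugates of `H` number `[G:H] (|H| - 1)`. -/
theorem card_union_conj {H : Subgroup G} (hH : Cfsg.IsFrobeniusComplement H) :
    Nat.card {x : G // x ≠ 1 ∧ ∃ g : G, g⁻¹ * x * g ∈ H} = H.index * (Nat.card H - 1) := by
  classical
  haveI := Fintype.ofFinite H
  rw [Subgroup.index, show Nat.card H - 1 = Nat.card {h : H // h ≠ 1} by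
    rw [Nat.card_eq_fintype_card, Nat.card_eq_fintype_card, Fintype.card_subtype_compl,
      Fintype.card_subtype_eq]]
  rw [← Nat.card_prod]
  let f : (G ⧸ H) × {h : H // h ≠ 1} → {x : G // x ≠ 1 ∧ ∃ g : G, g⁻¹ * x * g ∈ H} := fun p =>
    ⟨p.1.out * (p.2.1 : G) * p.1.out⁻¹, fun e => p.2.2 (Subtype.ext (by
      have := congrArg (fun w => p.1.out⁻¹ * w * p.1.out) e
      simpa [mul_assoc] using this)), p.1.out, by simp [mul_assoc]⟩
  refine (Nat.card_congr (Equiv.ofBijective f ⟨?_, ?_⟩)).symm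
  · rintro ⟨c, h, hh⟩ ⟨d, k, hk⟩ e
    have e' : c.out * (h : G) * c.out⁻¹ = d.out * (k : G) * d.out⁻¹ := congrArg Subtype.val e
    have hne : c.out * (h : G) * c.out⁻¹ ≠ 1 := fun e => hh (Subtype.ext (by
      have := congrArg (fun w => c.out⁻¹ * w * c.out) e
      simpa [mul_assoc] using this))
    have hcd : c = d := by
      rw [← QuotientGroup.out_eq' c, ← QuotientGroup.out_eq' d, QuotientGroup.eq]
      exact inv_mul_mem_of_mem_conj hH hne (by simp [mul_assoc]) (by rw [e']; simp [mul_assoc])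
    subst hcd
    exact Prod.ext rfl (Subtype.ext (Subtype.ext (by simpa using e')))
  · rintro ⟨x, hx, g, hg⟩
    obtain ⟨k, hk⟩ := QuotientGroup.mk_out_eq_mul H g
    have hm : (g : G ⧸ H).out⁻¹ * x * (g : G ⧸ H).out ∈ H := by
      rw [hk]
      have := mul_mem (mul_mem (inv_mem k.2) hg) k.2
      simpa [mul_assoc] using this
    refine ⟨(↑g, ⟨⟨_, hm⟩, fun e => hx ?_⟩), Subtype.ext (by simp [f, mul_assoc])⟩
    have := congrArg (fun w => (g : G ⧸ H).out * w * (g : G ⧸ H).out⁻¹) (congrArg Subtype.val e)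
    simpa [mul_assoc] using this

/-- The Frobenius kernel (as a set) has `[G:H]` elements. -/
theorem card_frobeniusKernel {H : Subgroup G} (hH : Cfsg.IsFrobeniusComplement H) :
    Nat.card (Cfsg.frobeniusKernel H) = H.index := by
  classical
  haveI := Fintype.ofFinite G
  have e : (Cfsg.frobeniusKernel H)ᶜ = {x : G | x ≠ 1 ∧ ∃ g : G, g⁻¹ * x * g ∈ H} := by
    ext x
    simp only [Set.mem_compl_iff, Cfsg.frobeniusKernel, Set.mem_ofPred_eq, mem_conj_iff, not_or,
      not_forall, not_not]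
  have h := Set.ncard_add_ncard_compl (Cfsg.frobeniusKernel H)
  rw [e, ← Nat.card_coe_set_eq, ← Nat.card_coe_set_eq] at h
  have h2 := card_union_conj hH
  rw [← H.index_mul_card] at h
  change Nat.card (Cfsg.frobeniusKernel H) + Nat.card {x : G // x ≠ 1 ∧ ∃ g : G, g⁻¹ * x * g ∈ H}
    = _ at h
  rw [h2] at h
  have : H.index * Nat.card H = H.index * (Nat.card H - 1) + H.index := by
    rw [← Nat.mul_succ, Nat.succ_eq_add_one, Nat.sub_add_cancel Nat.card_pos]
  omega

/-- An element of order not coprime to `|H|` lies in a conjugate of `H`. -/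
theorem exists_conj_mem {H : Subgroup G} (hH : Cfsg.IsFrobeniusComplement H) {x : G}
    (hx : ¬ (orderOf x).Coprime (Nat.card H)) : ∃ g : G, g⁻¹ * x * g ∈ H := by
  obtain ⟨p, hp, hpx, hpH⟩ := Nat.Prime.not_coprime_iff_dvd.1 hx
  haveI : Fact p.Prime := ⟨hp⟩
  set y := x ^ (orderOf x / p) with hy
  have hyo : orderOf y = p := by
    rw [hy, orderOf_pow_of_dvd (Nat.div_pos (Nat.le_of_dvd (orderOf_pos x) hpx) hp.pos).ne'
      (Nat.div_dvd_of_dvd hpx), Nat.div_div_self hpx (orderOf_pos x).ne']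
  let P : Sylow p H := default
  have hcop := coprime_card_index hH
  have hidx : ¬ p ∣ ((P : Subgroup H).map H.subtype).index := by
    rw [Subgroup.index_map_subtype]
    refine hp.not_dvd_mul P.not_dvd_index fun h => hp.ne_one ?_
    exact Nat.dvd_one.1 (hcop ▸ Nat.dvd_gcd hpH h)
  let S : Sylow p G := (P.2.map H.subtype).toSylow hidx
  obtain ⟨T, hT⟩ := (IsPGroup.of_card (p := p) (n := 1)
    (show Nat.card (Subgroup.zpowers y) = p ^ 1 by rw [Nat.card_zpowers, hyo, pow_one]))
      |>.exists_le_sylow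
  obtain ⟨g, rfl⟩ := MulAction.exists_smul_eq G S T
  have hy' := hT (Subgroup.mem_zpowers y)
  rw [Sylow.coe_subgroup_smul, mem_conj_iff] at hy'
  have hyH : g⁻¹ * y * g ∈ H := Subgroup.map_subtype_le _ hy'
  have hy1 : g⁻¹ * y * g ≠ 1 := fun e => by
    have : y = 1 := by simpa [mul_assoc] using congrArg (fun w => g * w * g⁻¹) e
    rw [this, orderOf_one] at hyo
    exact hp.ne_one hyo.symm
  refine ⟨g, centralizer_le hH hyH hy1 ?_⟩
  rw [Subgroup.mem_centralizer_singleton_iff]
  have hc : x * y = y * x := (Commute.pow_right (Commute.refl x) _).eq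
  calc g⁻¹ * x * g * (g⁻¹ * y * g) = g⁻¹ * (x * y) * g := by group
    _ = g⁻¹ * (y * x) * g := by rw [hc]
    _ = g⁻¹ * y * g * (g⁻¹ * x * g) := by group

/-- The kernel consists exactly of the elements of order coprime to `|H|`. -/
theorem mem_frobeniusKernel_iff {H : Subgroup G} (hH : Cfsg.IsFrobeniusComplement H) {x : G} :
    x ∈ Cfsg.frobeniusKernel H ↔ (orderOf x).Coprime (Nat.card H) := by
  constructor
  · rintro (rfl | h)
    · simp
    · by_contra hc
      obtain ⟨g, hg⟩ := exists_conj_mem hH hc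
      exact h g (mem_conj_iff.2 hg)
  · intro hc
    by_cases hx : x = 1
    · exact Or.inl hx
    refine Or.inr fun g hg => hx ?_
    rw [mem_conj_iff] at hg
    have ho : orderOf (g⁻¹ * x * g) = orderOf x :=
      (SemiconjBy.orderOf_eq g⁻¹ (by simp [SemiconjBy, mul_assoc])).symm
    have hd : orderOf x ∣ Nat.card H := ho ▸ (H.orderOf_coe ⟨_, hg⟩ ▸ orderOf_dvd_natCard _)
    exact orderOf_eq_one_iff.1 (Nat.eq_one_of_dvd_coprimes hc dvd_rfl hd)

/-- Intersection with a subgroup meeting `H` properly gives a Frobenius complement there. -/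
theorem subgroupOf {H L : Subgroup G} (hH : Cfsg.IsFrobeniusComplement H) (h1 : H ⊓ L ≠ ⊥)
    (h2 : ¬ L ≤ H) : Cfsg.IsFrobeniusComplement (H.subgroupOf L) := by
  refine ⟨fun h => h1 ?_, fun h => h2 ?_, fun g hg => ?_⟩
  · rw [← Subgroup.subgroupOf_map_subtype, h, Subgroup.map_bot]
  · exact Subgroup.subgroupOf_eq_top.1 h
  · rw [eq_bot_iff]
    rintro x ⟨hx1, hx2'⟩
    rw [Subgroup.mem_bot]
    by_contra hx
    have hx2 := mem_conj_iff.1 hx2'
    refine hg (mem_of_conj_mem hH (x := (x : G)) (fun e => hx (Subtype.ext e)) hx1 ?_)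
    exact hx2

/-- A subgroup of order coprime to the index lies in a conjugate of `H`. -/
theorem exists_le_conj {H L : Subgroup G} (hH : Cfsg.IsFrobeniusComplement H)
    (hL : (Nat.card L).Coprime H.index) : ∃ g : G, L ≤ MulAut.conj g • H := by
  classical
  by_contra hno
  rw [not_exists] at hno
  have hne : ∀ x ∈ L, x ≠ 1 → ∃ g : G, g⁻¹ * x * g ∈ H := by
    intro x hx hx1
    refine exists_conj_mem hH fun hc => hx1 ?_
    have hd : orderOf x ∣ H.index * Nat.card H := by
      rw [H.index_mul_card]; exact orderOf_dvd_natCard x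
    have hxL : orderOf x ∣ Nat.card L := L.orderOf_coe ⟨x, hx⟩ ▸ orderOf_dvd_natCard _
    exact orderOf_eq_one_iff.1
      (Nat.eq_one_of_dvd_coprimes hL hxL (hc.dvd_of_dvd_mul_right hd))
  obtain ⟨x, hx, hx1⟩ : ∃ x ∈ L, x ≠ 1 := by
    by_contra h
    push Not at h
    exact hno 1 fun x hx => by rw [h x hx]; exact one_mem _
  obtain ⟨g, hg⟩ := hne x hx hx1
  have hK := conj hH g
  have hC := subgroupOf hK (L := L) (fun e => hx1 (Subgroup.mem_bot.1
    (e ▸ ⟨mem_conj_iff.2 hg, hx⟩))) (fun h => hno g h)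
  set C := (MulAut.conj g • H).subgroupOf L with hCdef
  have hker : ∀ y : L, y ≠ 1 → ∃ g : L, g⁻¹ * y * g ∈ C := by
    by_contra hk
    push Not at hk
    obtain ⟨y, hy1, hy⟩ := hk
    obtain ⟨a, ha⟩ := hne y y.2 (fun e => hy1 (Subtype.ext e))
    have hD := subgroupOf (conj hH a) (L := L) (fun e => hy1 (Subtype.ext (Subgroup.mem_bot.1
      (e ▸ ⟨mem_conj_iff.2 ha, y.2⟩)))) (fun h => hno a h)
    set D := (MulAut.conj a • H).subgroupOf L with hDdef
    have hdis : ∀ z : L, (z ≠ 1 ∧ ∃ u : L, u⁻¹ * z * u ∈ C) →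
        ¬ (z ≠ 1 ∧ ∃ v : L, v⁻¹ * z * v ∈ D) := by
      rintro z ⟨hz1, u, hu⟩ ⟨-, v, hv⟩
      simp only [hCdef, hDdef, Subgroup.mem_subgroupOf, mem_conj_iff, Subgroup.coe_mul,
        Subgroup.coe_inv] at hu hv
      have hm : (u * g)⁻¹ * (v * a) ∈ H := inv_mul_mem_of_mem_conj hH
        (fun e => hz1 (Subtype.ext e)) (by simpa [mul_assoc] using hu)
        (by simpa [mul_assoc] using hv)
      refine hy (u⁻¹ * v)⁻¹ ?_
      simp only [hCdef, Subgroup.mem_subgroupOf, mem_conj_iff, Subgroup.coe_mul,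
        Subgroup.coe_inv]
      have := mul_mem (mul_mem hm ha) (inv_mem hm)
      simpa [mul_assoc] using this
    have e1 := card_union_conj hC
    have e2 := card_union_conj hD
    have hle : Nat.card {z : L // z ≠ 1 ∧ ∃ u : L, u⁻¹ * z * u ∈ C} +
        Nat.card {z : L // z ≠ 1 ∧ ∃ v : L, v⁻¹ * z * v ∈ D} ≤ Nat.card L - 1 := by
      haveI := Fintype.ofFinite L
      simp only [Nat.card_eq_fintype_card, Fintype.card_subtype]
      rw [← Finset.card_union_of_disjoint
        (Finset.disjoint_filter.2 fun z _ => hdis z)]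
      refine le_trans (Finset.card_le_card (t := Finset.univ.erase 1) fun z hz => ?_) (by simp)
      simp only [Finset.mem_union, Finset.mem_filter, Finset.mem_univ, true_and] at hz
      exact Finset.mem_erase.2 ⟨hz.elim And.left And.left, Finset.mem_univ _⟩
    have half : ∀ {K : Subgroup L}, Cfsg.IsFrobeniusComplement K →
        Nat.card L ≤ 2 * (K.index * (Nat.card K - 1)) := fun {K} hK' => by
      have h2 : 2 ≤ Nat.card K :=
        (Subgroup.one_lt_card_iff_ne_bot _).2 hK'.1
      obtain ⟨m, hm⟩ := Nat.exists_eq_add_of_le h2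
      rw [← K.index_mul_card, hm]
      have : 2 + m - 1 = 1 + m := by omega
      rw [this]; nlinarith
    have := half hC
    have := half hD
    have : 0 < Nat.card L := Nat.card_pos
    omega
  have hk := card_frobeniusKernel hC
  have h1 : Nat.card (Cfsg.frobeniusKernel C) = 1 := by
    rw [Nat.card_eq_one_iff_unique]
    refine ⟨⟨fun p q => ?_⟩, ⟨⟨1, Or.inl rfl⟩⟩⟩
    have : ∀ r : Cfsg.frobeniusKernel C, (r : L) = 1 := fun r => by
      rcases r.2 with h | h
      · exact h
      · by_contra hr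
        obtain ⟨u, hu⟩ := hker r hr
        exact h u (mem_conj_iff.2 hu)
    exact Subtype.ext ((this p).trans (this q).symm)
  exact (one_lt_index hC).ne' (hk ▸ h1)

end CfsgLib.Frobenius
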