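import Mathlib.GroupTheory.Sylow
import Mathlib.GroupTheory.GroupAction.Quotient
import Mathlib.GroupTheory.SpecificGroups.Cyclic

/-!
Fixed-point-free actions by automorphisms: `φ : E →* MulAut K` such that no `e ≠ 1` fixes a
nontrivial element.
-/

set_option autoImplicit false
set_option linter.style.haveILetI false

namespace CfsgLib.Frobenius

open scoped Pointwise

variable {E K : Type*} [Group E] [Group K]

/-- `φ` is fixed-point-free: nontrivial elements fix only the identity. -/
def IsFpf (φ : E →* MulAut K) : Prop := ∀ e : E, e ≠ 1 → ∀ k : K, φ e k = k → k = 1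

theorem IsFpf.comp {F : Type*} [Group F] {φ : E →* MulAut K} (h : IsFpf φ) (f : F →* E)
    (hf : Function.Injective f) : IsFpf (φ.comp f) :=
  fun x hx k hk => h (f x) (fun e => hx (hf (e.trans (map_one f).symm))) k hk

theorem IsFpf.injective [Nontrivial K] {φ : E →* MulAut K} (h : IsFpf φ) :
    Function.Injective φ := by
  rw [injective_iff_map_eq_one]
  intro e he
  by_contra hne
  obtain ⟨k, hk⟩ := exists_ne (1 : K)
  exact hk (h e hne k (by rw [he]; rfl))

/-- Restriction to an invariant subgroup. -/
noncomputable def restrictAut (φ : E →* MulAut K) (A : Subgroup K)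
    (hA : ∀ e, ∀ a ∈ A, φ e a ∈ A) : E →* MulAut A where
  toFun e :=
    { toFun := fun a => ⟨φ e a, hA e a a.2⟩
      invFun := fun a => ⟨φ e⁻¹ a, hA e⁻¹ a a.2⟩
      left_inv := fun a => Subtype.ext (show φ e⁻¹ (φ e (a : K)) = a by
        rw [← MulAut.mul_apply, ← map_mul, inv_mul_cancel, map_one, MulAut.one_apply])
      right_inv := fun a => Subtype.ext (show φ e (φ e⁻¹ (a : K)) = a by
        rw [← MulAut.mul_apply, ← map_mul, mul_inv_cancel, map_one, MulAut.one_apply])
      map_mul' := fun a b => Subtype.ext (map_mul (φ e) (a : K) b) }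
  map_one' := by
    ext a
    show φ 1 (a : K) = a
    rw [map_one, MulAut.one_apply]
  map_mul' e f := by
    ext a
    show φ (e * f) (a : K) = φ e (φ f a)
    rw [map_mul, MulAut.mul_apply]

theorem IsFpf.restrict {φ : E →* MulAut K} (h : IsFpf φ) (A : Subgroup K)
    (hA : ∀ e, ∀ a ∈ A, φ e a ∈ A) : IsFpf (restrictAut φ A hA) :=
  fun e he a ha => Subtype.ext (h e he a (congrArg Subtype.val ha))

theorem fpf_bijective [Finite K] (σ : MulAut K) (hσ : ∀ k, σ k = k → k = 1) :
    Function.Bijective fun k : K => k⁻¹ * σ k := by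
  refine Finite.injective_iff_bijective.1 fun a b hab => ?_
  have h1 : σ (a * b⁻¹) = a * b⁻¹ := by
    change a⁻¹ * σ a = b⁻¹ * σ b at hab
    have h2 : σ a = a * b⁻¹ * σ b := by
      rw [mul_assoc a b⁻¹ (σ b), ← hab, mul_inv_cancel_left]
    rw [map_mul, map_inv, h2, mul_inv_cancel_right]
  exact mul_inv_eq_one.1 (hσ _ h1)

/-- A fixed-point-free involutory automorphism is inversion. -/
theorem fpf_inv [Finite K] (σ : MulAut K) (hσ : ∀ k, σ k = k → k = 1) (h2 : σ * σ = 1) (k : K) :
    σ k = k⁻¹ := by
  obtain ⟨a, rfl⟩ := (fpf_bijective σ hσ).2 k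
  show σ (a⁻¹ * σ a) = (a⁻¹ * σ a)⁻¹
  have : σ (σ a) = a := by rw [← MulAut.mul_apply, h2, MulAut.one_apply]
  rw [map_mul, map_inv, this, mul_inv_rev, inv_inv]

theorem IsFpf.card_modEq_one [Finite E] [Finite K] {φ : E →* MulAut K} (h : IsFpf φ) :
    Nat.card K ≡ 1 [MOD Nat.card E] := by
  classical
  letI : MulAction E K := MulAction.compHom K φ
  haveI := Fintype.ofFinite E
  haveI := Fintype.ofFinite K
  haveI := Fintype.ofFinite (Quotient (MulAction.orbitRel E K))
  have hfix : ∀ e : E, e ≠ 1 → Fintype.card (MulAction.fixedBy K e) = 1 := fun e he =>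
    Fintype.card_eq_one_iff.2 ⟨⟨1, show φ e 1 = 1 from map_one _⟩,
      fun k => Subtype.ext (h e he k k.2)⟩
  have hsum := MulAction.sum_card_fixedBy_eq_card_orbits_mul_card_group E K
  rw [← Finset.add_sum_erase _ _ (Finset.mem_univ (1 : E)),
    Finset.sum_congr rfl (fun e he => hfix e (Finset.ne_of_mem_erase he))] at hsum
  simp only [Finset.sum_const, Finset.card_erase_of_mem (Finset.mem_univ _), Finset.card_univ,
    smul_eq_mul, mul_one, ← Nat.card_eq_fintype_card] at hsum
  have h1 : Nat.card (MulAction.fixedBy K (1 : E)) = Nat.card K := by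
    rw [show MulAction.fixedBy K (1 : E) = Set.univ from
      Set.eq_univ_of_forall fun c => one_smul E c, Nat.card_univ]
  rw [h1] at hsum
  have hpos : 1 ≤ Nat.card E := Nat.card_pos
  have e : Nat.card K + Nat.card E = Nat.card (Quotient (MulAction.orbitRel E K)) * Nat.card E + 1 := by
    omega
  have := congrArg (· % Nat.card E) e
  simpa [Nat.ModEq, Nat.add_mod] using this

theorem IsFpf.coprime_card [Finite E] [Finite K] {φ : E →* MulAut K} (h : IsFpf φ) :
    (Nat.card E).Coprime (Nat.card K) :=
  Nat.coprime_of_dvd fun _ hp h1 h2 =>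
    hp.ne_one (Nat.dvd_one.1 (((h.card_modEq_one).of_dvd h1).dvd_iff dvd_rfl |>.1 h2))

/-- A fixed-point-free group with a nontrivial normal cyclic subgroup fixes a Sylow subgroup. -/
theorem IsFpf.exists_invariant_sylow [Finite K] {φ : E →* MulAut K} (h : IsFpf φ) {a : E}
    (ha : a ≠ 1) (hn : (Subgroup.zpowers a).Normal) (q : ℕ) [Fact q.Prime] :
    ∃ Q : Sylow q K, ∀ e : E, φ e • Q = Q := by
  have hb := fpf_bijective (φ a) (h a ha)
  have hkey : ∀ (σ : MulAut K) (x : K) (R : Sylow q K), σ • (x • R) = σ x • (σ • R) := by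
    intro σ x R
    apply Sylow.ext
    simp only [Sylow.smul_def, Sylow.pointwise_smul_def, ← mul_smul]
    congr 1
    ext y
    simp
  obtain ⟨Q₀⟩ : Nonempty (Sylow q K) := inferInstance
  obtain ⟨c, hc⟩ := MulAction.exists_smul_eq K (φ a • Q₀) Q₀
  obtain ⟨b, hb'⟩ := hb.2 c
  refine ⟨b • Q₀, fun e => ?_⟩
  have huniq : ∀ R : Sylow q K, φ a • R = R → R = b • Q₀ := by
    intro R hR
    obtain ⟨d, rfl⟩ := MulAction.exists_smul_eq K (b • Q₀) R
    have hfix : φ a • (b • Q₀) = b • Q₀ := by
      simp only at hb'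
      rw [hkey, show φ a b = b * c by rw [← hb', mul_inv_cancel_left], mul_smul, hc]
    rw [hkey, hfix] at hR
    have hn' : d⁻¹ * φ a d ∈ MulAction.stabilizer K (b • Q₀) := by
      rw [MulAction.mem_stabilizer_iff, mul_smul, hR, inv_smul_smul]
    set S := MulAction.stabilizer K (b • Q₀)
    have hS : ∀ n ∈ S, φ a n ∈ S := by
      intro n hn
      rw [MulAction.mem_stabilizer_iff] at hn ⊢
      calc φ a n • (b • Q₀) = φ a n • (φ a • (b • Q₀)) := by rw [hfix]
        _ = b • Q₀ := by rw [← hkey, hn, hfix]
    have hinj : Function.Injective fun n : S =>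
        (⟨(n : K)⁻¹ * φ a n, mul_mem (inv_mem n.2) (hS n n.2)⟩ : S) :=
      fun x y hxy => Subtype.ext (hb.1 (congrArg Subtype.val hxy))
    obtain ⟨n, hn2⟩ := (Finite.injective_iff_surjective.1 hinj) ⟨_, hn'⟩
    rw [← hb.1 (congrArg Subtype.val hn2)]
    exact n.2
  have hfix0 : φ a • (b • Q₀) = b • Q₀ := by
    simp only at hb'
    rw [hkey, show φ a b = b * c by rw [← hb', mul_inv_cancel_left], mul_smul, hc]
  refine huniq _ ?_
  obtain ⟨j, hj⟩ := Subgroup.mem_zpowers_iff.1 (hn.conj_mem a (Subgroup.mem_zpowers a) e⁻¹)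
  rw [inv_inv] at hj
  have e1 : φ a * φ e = φ e * (φ a) ^ j := by
    rw [← map_zpow, ← map_mul, ← map_mul, hj]
    congr 1
    group
  rw [← mul_smul, e1, mul_smul]
  congr 1
  exact MulAction.mem_stabilizer_iff.1
    (zpow_mem (MulAction.mem_stabilizer_iff.2 hfix0) j)

/-- The product identity: a group with a partition into `k` nontrivial subgroups, acting fixed
point freely on an abelian group, satisfies `v ^ k = v`. -/
theorem IsFpf.pow_partition {A : Type*} [CommGroup A] [Fintype E] [Nontrivial E]
    {φ : E →* MulAut A} (h : IsFpf φ) {ι : Type*} [Fintype ι] (C : ι → Subgroup E)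
    (hne : ∀ i, C i ≠ ⊥) (hpart : ∀ e : E, e ≠ 1 → ∃! i, e ∈ C i) (v : A) :
    v ^ Fintype.card ι = v := by
  classical
  have hnorm : ∀ D : Subgroup E, D ≠ ⊥ → ∏ e ∈ Finset.univ.filter (· ∈ D), φ e v = 1 := by
    intro D hD
    obtain ⟨d, hd⟩ := Subgroup.ne_bot_iff_exists_ne_one.1 hD
    refine h d (fun e => hd (Subtype.ext e)) _ ?_
    rw [map_prod]
    refine Finset.prod_nbij' (fun x => (d : E) * x) (fun x => (d : E)⁻¹ * x) ?_ ?_ ?_ ?_ ?_
    · intro x hx
      simp only [Finset.mem_filter, Finset.mem_univ, true_and] at hx ⊢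
      exact mul_mem d.2 hx
    · intro x hx
      simp only [Finset.mem_filter, Finset.mem_univ, true_and] at hx ⊢
      exact mul_mem (inv_mem d.2) hx
    · intro x _; simp
    · intro x _; simp
    · intro x _; simp [map_mul]
  have hins : ∀ D : Subgroup E, Finset.univ.filter (· ∈ D) =
      insert 1 ((Finset.univ.erase 1).filter (· ∈ D)) := by
    intro D
    ext e
    by_cases he : e = 1 <;> simp [he, one_mem]
  set X := ∏ e ∈ Finset.univ.erase (1 : E), φ e v with hX
  have h1 : v * X = 1 := by
    have := hnorm ⊤ top_ne_bot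
    simp only [Subgroup.mem_top, Finset.filter_true] at this
    rw [← this, hX, ← Finset.mul_prod_erase _ _ (Finset.mem_univ (1 : E)), map_one, MulAut.one_apply]
  have h2 : v ^ Fintype.card ι * X = 1 := by
    have hall : ∏ i, ∏ e ∈ Finset.univ.filter (· ∈ C i), φ e v = 1 :=
      Finset.prod_eq_one fun i _ => hnorm _ (hne i)
    simp only [hins, Finset.prod_insert (show (1 : E) ∉ (Finset.univ.erase 1).filter _ by simp),
      map_one, MulAut.one_apply, Finset.prod_mul_distrib, Finset.prod_const,
      Finset.card_univ] at hall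
    rw [← hall, hX]
    congr 1
    simp only [Finset.prod_filter]
    rw [Finset.prod_comm]
    refine Finset.prod_congr rfl fun e he => ?_
    obtain ⟨i, hi, huq⟩ := hpart e (Finset.ne_of_mem_erase he)
    rw [Finset.prod_eq_single i (fun j _ hj => if_neg fun hm => hj (huq j hm))
      (fun hh => absurd (Finset.mem_univ i) hh), if_pos hi]
  exact mul_right_cancel (h2.trans h1.symm)

theorem card_sub_one_partition [Fintype E] {ι : Type*} [Fintype ι] (C : ι → Subgroup E)
    (hpart : ∀ e : E, e ≠ 1 → ∃! i, e ∈ C i) :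
    ∑ i, (Nat.card (C i) - 1) = Nat.card E - 1 := by
  classical
  have hc : ∀ i, Nat.card (C i) - 1 = ((Finset.univ.erase 1).filter (· ∈ C i)).card := by
    intro i
    rw [Finset.filter_erase, Finset.card_erase_of_mem (by simp [one_mem]), Nat.card_eq_fintype_card,
      Fintype.card_subtype]
  rw [Finset.sum_congr rfl fun i _ => hc i, ← Finset.card_biUnion, Nat.card_eq_fintype_card,
    ← Finset.card_univ, ← Finset.card_erase_of_mem (Finset.mem_univ (1 : E))]
  · congr 1
    ext e
    simp only [Finset.mem_biUnion, Finset.mem_filter, Finset.mem_univ, true_and,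
      Finset.mem_erase, ne_eq, and_true]
    exact ⟨fun ⟨i, he, _⟩ => he, fun he => ⟨(hpart e he).choose, he, (hpart e he).choose_spec.1⟩⟩
  · intro i _ j _ hij
    rw [Function.onFun, Finset.disjoint_left]
    intro e hei hej
    simp only [Finset.mem_filter, Finset.mem_erase, ne_eq] at hei hej
    exact hij ((hpart e hei.1.1).unique hei.2 hej.2)

/-- A fixed-point-free group of order `p * q` on a nontrivial finite group is cyclic. -/
theorem IsFpf.isCyclic_of_card [Finite E] [Finite K] [Nontrivial K] {φ : E →* MulAut K}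
    (h : IsFpf φ) {p q : ℕ} (hp : p.Prime) (hq : q.Prime) (hcard : Nat.card E = p * q) :
    IsCyclic E := by
  classical
  by_contra hnc
  haveI := Fintype.ofFinite E
  haveI : Nontrivial E := by
    rw [← Finite.one_lt_card_iff_nontrivial, hcard]
    exact lt_of_lt_of_le hp.one_lt (Nat.le_mul_of_pos_right p hq.pos)
  have hord : ∀ e : E, e ≠ 1 → orderOf e = p ∨ orderOf e = q := by
    intro e he
    have hd : orderOf e ∣ p * q := hcard ▸ orderOf_dvd_natCard e
    obtain ⟨⟨a, ha⟩, ⟨b, hb⟩, hab⟩ := Nat.dvd_mul.1 hd |> fun ⟨a, b, ha, hb, hab⟩ =>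
      (⟨⟨a, ha⟩, ⟨b, hb⟩, hab⟩ : ∃ (a : {a // a ∣ p}) (b : {b // b ∣ q}), a.1 * b.1 = orderOf e)
    rcases (Nat.dvd_prime hp).1 ha with rfl | rfl <;> rcases (Nat.dvd_prime hq).1 hb with rfl | rfl
    · exact absurd (orderOf_eq_one_iff.1 (by simpa using hab.symm)) he
    · exact Or.inr (by simpa using hab.symm)
    · exact Or.inl (by simpa using hab.symm)
    · exact absurd (isCyclic_of_orderOf_eq_card e (by rw [hcard]; exact hab.symm)) hnc
  let ι := {C : Subgroup E // (Nat.card C).Prime}
  haveI : Fintype ι := Fintype.ofFinite ι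
  have hne : ∀ i : ι, (i.1 : Subgroup E) ≠ ⊥ := fun i hb => by
    have := i.2; rw [hb, Subgroup.card_bot] at this; exact Nat.not_prime_one this
  have hpart : ∀ e : E, e ≠ 1 → ∃! i : ι, e ∈ i.1 := by
    intro e he
    refine ⟨⟨Subgroup.zpowers e, by
      rw [Nat.card_zpowers]; rcases hord e he with h1 | h1 <;> rw [h1] <;> assumption⟩,
      Subgroup.mem_zpowers e, fun i hi => Subtype.ext (symm ?_)⟩
    refine Subgroup.eq_of_le_of_card_ge (Subgroup.zpowers_le.2 hi) ?_
    rcases i.2.eq_one_or_self_of_dvd _ (Nat.card_zpowers e ▸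
      Subgroup.card_dvd_of_le (Subgroup.zpowers_le.2 hi)) with h1 | h1
    · exact absurd (orderOf_eq_one_iff.1 h1) he
    · rw [Nat.card_zpowers, h1]
  haveI : Fact p.Prime := ⟨hp⟩
  haveI : Fact q.Prime := ⟨hq⟩
  -- a nontrivial normal cyclic subgroup, and the partition count
  obtain ⟨⟨a, ha, han⟩, hk⟩ : (∃ a : E, a ≠ 1 ∧ (Subgroup.zpowers a).Normal) ∧
      ∃ r, (r = p ∨ r = q) ∧ Fintype.card ι = r + 1 := by
    by_cases hpq : p = q
    · subst hpq
      haveI : IsMulCommutative E := IsPGroup.isMulCommutative_of_card_eq_prime_sq (p := p)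
        (by rw [hcard, pow_two])
      obtain ⟨a, ha⟩ := exists_ne (1 : E)
      refine ⟨⟨a, ha, inferInstance⟩, p, Or.inl rfl, ?_⟩
      have hs := card_sub_one_partition (fun i : ι => i.1) hpart
      rw [Finset.sum_congr rfl (fun (i : ι) _ => show Nat.card i.1 - 1 = p - 1 by
        have := Subgroup.card_subgroup_dvd_card i.1
        rw [hcard] at this
        rcases i.2.dvd_mul.1 this with h2 | h2 <;>
            rw [(Nat.prime_dvd_prime_iff_eq i.2 hp).1 h2]), Finset.sum_const, smul_eq_mul,
        Finset.card_univ, hcard] at hs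
      obtain ⟨m, hm⟩ : ∃ m, p = m + 2 := Nat.exists_eq_add_of_le' hp.two_le
      subst hm
      have : Fintype.card ι * (m + 1) = (m + 3) * (m + 1) := by
        have e : (m + 2) * (m + 2) = (m + 3) * (m + 1) + 1 := by ring
        rw [e] at hs
        simpa using hs
      exact Nat.eq_of_mul_eq_mul_right m.succ_pos this
    · have hsyl : ∀ r s : ℕ, r.Prime → s.Prime → r ≠ s → Nat.card E = r * s →
          Nonempty ({C : Subgroup E // Nat.card C = r} ≃ Sylow r E) := by
        intro r s hr hs hrs hc
        haveI : Fact r.Prime := ⟨hr⟩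
        have hf : (Nat.card E).factorization r = 1 := by
          rw [hc, Nat.factorization_mul hr.ne_zero hs.ne_zero, Finsupp.add_apply,
            hr.factorization_self, hs.factorization, Finsupp.single_eq_of_ne hrs, add_zero]
        exact ⟨{ toFun := fun C => Sylow.ofCard C.1 (by rw [C.2, hf, pow_one])
                 invFun := fun P => ⟨P, by rw [P.card_eq_multiplicity, hf, pow_one]⟩
                 left_inv := fun C => Subtype.ext rfl
                 right_inv := fun P => Sylow.ext rfl }⟩
      have main : ∀ r s : ℕ, r.Prime → s.Prime → r < s → Nat.card E = r * s →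
          (∀ i : ι, Nat.card i.1 = r ∨ Nat.card i.1 = s) →
          (∃ a : E, a ≠ 1 ∧ (Subgroup.zpowers a).Normal) ∧ Fintype.card ι = s + 1 := by
        intro r s hr hs hrs hc hio
        haveI : Fact r.Prime := ⟨hr⟩
        haveI : Fact s.Prime := ⟨hs⟩
        have hdvd : ∀ t : ℕ, Fact t.Prime → Nat.card (Sylow t E) ∣ r * s := fun t _ => by
          obtain ⟨P⟩ : Nonempty (Sylow t E) := inferInstance
          exact hc ▸ P.card_dvd_index.trans (Subgroup.index_dvd_card _)
        have hns : Nat.card (Sylow s E) = 1 := by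
          have h1 : Nat.card (Sylow s E) ∣ r := (Nat.Coprime.dvd_of_dvd_mul_right
            ((Nat.Prime.coprime_iff_not_dvd hs).2 (not_dvd_card_sylow s E)).symm (hdvd s inferInstance))
          rcases (Nat.dvd_prime hr).1 h1 with h2 | h2
          · exact h2
          · have h3 := card_sylow_modEq_one (G := E) (p := s)
            rw [h2, Nat.ModEq, Nat.mod_eq_of_lt hrs, Nat.mod_eq_of_lt hs.one_lt] at h3
            exact absurd h3 hr.ne_one
        obtain ⟨P⟩ : Nonempty (Sylow s E) := inferInstance
        haveI : Subsingleton (Sylow s E) := (Nat.card_eq_one_iff_unique.1 hns).1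
        haveI hPn : (P : Subgroup E).Normal := P.normal_of_subsingleton
        obtain ⟨eqs⟩ := hsyl s r hs hr hrs.ne' (by rw [hc, mul_comm])
        obtain ⟨eqr⟩ := hsyl r s hr hs hrs.ne hc
        have hPc : Nat.card P = s := by
          rw [P.card_eq_multiplicity, hc, Nat.factorization_mul hr.ne_zero hs.ne_zero,
            Finsupp.add_apply, hs.factorization_self, hr.factorization,
            Finsupp.single_eq_of_ne hrs.ne', zero_add, pow_one]
        haveI := isCyclic_of_prime_card (p := s) (α := P) hPc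
        obtain ⟨a, ha⟩ := IsCyclic.exists_generator (α := P)
        have hza : Subgroup.zpowers (a : E) = (P : Subgroup E) := by
          refine le_antisymm (Subgroup.zpowers_le.2 a.2) fun x hx => ?_
          obtain ⟨j, hj⟩ := Subgroup.mem_zpowers_iff.1 (ha ⟨x, hx⟩)
          exact Subgroup.mem_zpowers_iff.2 ⟨j, by rw [← Subgroup.coe_zpow]; exact congrArg Subtype.val hj⟩
        refine ⟨⟨a, fun e => ?_, by rw [hza]; exact hPn⟩, ?_⟩
        · rw [e, Subgroup.zpowers_one_eq_bot] at hza
          rw [← hza, Subgroup.card_bot] at hPc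
          exact hs.ne_one hPc.symm
        · have hsum := card_sub_one_partition (fun i : ι => i.1) hpart
          have hcs : (Finset.univ.filter fun i : ι => Nat.card i.1 = s).card = 1 := by
            rw [← hns, ← Nat.card_congr eqs, ← Fintype.card_subtype, ← Nat.card_eq_fintype_card]
            exact Nat.card_congr
              { toFun := fun i => ⟨i.1.1, i.2⟩
                invFun := fun C => ⟨⟨C.1, C.2.symm ▸ hs⟩, C.2⟩
                left_inv := fun i => rfl
                right_inv := fun C => rfl }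
          rw [← Finset.sum_filter_add_sum_filter_not Finset.univ (fun i : ι => Nat.card i.1 = s),
            Finset.sum_congr rfl (fun i hi => by rw [(Finset.mem_filter.1 hi).2] :
              ∀ i ∈ Finset.univ.filter (fun i : ι => Nat.card i.1 = s), Nat.card i.1 - 1 = s - 1),
            Finset.sum_congr rfl (fun i hi => by
              rw [(hio i).resolve_right (Finset.mem_filter.1 hi).2] :
              ∀ i ∈ Finset.univ.filter (fun i : ι => ¬ Nat.card i.1 = s), Nat.card i.1 - 1 = r - 1),
            Finset.sum_const, Finset.sum_const, hcs, one_smul, smul_eq_mul, hc] at hsum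
          have hcard' : Fintype.card ι = 1 + (Finset.univ.filter fun i : ι => ¬ Nat.card i.1 = s).card := by
            rw [← hcs, Finset.card_filter_add_card_filter_not, Finset.card_univ]
          obtain ⟨m, rfl⟩ : ∃ m, r = m + 2 := Nat.exists_eq_add_of_le' hr.two_le
          have e : (m + 2) * s = s * (m + 1) + (s - 1) + 1 := by
            obtain ⟨n, rfl⟩ : ∃ n, s = n + 1 := Nat.exists_eq_add_of_le' hs.one_lt.le
            simp only [Nat.add_sub_cancel]
            ring
          have : (Finset.univ.filter fun i : ι => ¬ Nat.card i.1 = s).card * (m + 1) = s * (m + 1) := by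
            rw [e] at hsum
            simp only [Nat.add_sub_cancel] at hsum
            have : m + 2 - 1 = m + 1 := rfl
            rw [this] at hsum
            omega
          rw [hcard', Nat.eq_of_mul_eq_mul_right m.succ_pos this, add_comm]
      have hio : ∀ i : ι, Nat.card i.1 = p ∨ Nat.card i.1 = q := fun i => by
        have := Subgroup.card_subgroup_dvd_card i.1
        rw [hcard] at this
        exact (i.2.dvd_mul.1 this).imp (Nat.prime_dvd_prime_iff_eq i.2 hp).1
          (Nat.prime_dvd_prime_iff_eq i.2 hq).1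
      rcases lt_or_gt_of_ne hpq with hlt | hlt
      · exact ⟨(main p q hp hq hlt hcard hio).1, q, Or.inr rfl, (main p q hp hq hlt hcard hio).2⟩
      · obtain ⟨m1, m2⟩ := main q p hq hp hlt (by rw [hcard, mul_comm]) (fun i => (hio i).symm)
        exact ⟨m1, p, Or.inl rfl, m2⟩
  obtain ⟨r, hr, hk⟩ := hk
  -- restrict to the centre of an invariant Sylow subgroup
  obtain ⟨l, hl, hlK⟩ := Nat.exists_prime_and_dvd (Finite.one_lt_card (α := K)).ne'
  haveI : Fact l.Prime := ⟨hl⟩
  obtain ⟨Q, hQ⟩ := h.exists_invariant_sylow ha han l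
  have hQi : ∀ e, ∀ k ∈ (Q : Subgroup K), φ e k ∈ (Q : Subgroup K) := by
    intro e k hk
    have h1 : φ e k ∈ (φ e • (Q : Subgroup K)) := Subgroup.smul_mem_pointwise_smul k (φ e) _ hk
    rwa [← Sylow.pointwise_smul_def, hQ e] at h1
  haveI : Nontrivial Q := (Subgroup.nontrivial_iff_ne_bot _).2 (Q.ne_bot_of_dvd_card hlK)
  haveI : Nontrivial (Subgroup.center Q) := Q.2.center_nontrivial
  let ψ := restrictAut φ (Q : Subgroup K) hQi
  have hψ : IsFpf ψ := h.restrict _ hQi
  have hZi : ∀ e, ∀ z ∈ Subgroup.center Q, ψ e z ∈ Subgroup.center Q := by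
    intro e z hz
    rw [Subgroup.mem_center_iff] at hz ⊢
    intro x
    obtain ⟨y, rfl⟩ := (ψ e).surjective x
    rw [← map_mul, ← map_mul, hz y]
  obtain ⟨z, hz⟩ := exists_ne (1 : Subgroup.center Q)
  letI : CommGroup (Subgroup.center Q) :=
    { (inferInstance : Group (Subgroup.center Q)) with
      mul_comm := fun a b => Subtype.ext (Subgroup.mem_center_iff.1 b.2 a.1) }
  have hpow := (hψ.restrict (Subgroup.center Q) hZi).pow_partition (fun i : ι => i.1) hne hpart z
  rw [hk, pow_succ] at hpow
  have hzr : z ^ r = 1 := mul_eq_right.1 hpow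
  have hor : orderOf z = r := by
    haveI : Fact r.Prime := ⟨by rcases hr with rfl | rfl <;> assumption⟩
    exact orderOf_eq_prime hzr hz
  have hzK : r ∣ Nat.card K := by
    rw [← hor]
    exact (orderOf_dvd_natCard z).trans ((Subgroup.card_subgroup_dvd_card _).trans
      (Subgroup.card_subgroup_dvd_card _))
  have hrE : r ∣ Nat.card E := by
    rcases hr with rfl | rfl <;> rw [hcard]
    exacts [dvd_mul_right _ _, dvd_mul_left _ _]
  have hr1 : r = 1 := Nat.eq_one_of_dvd_coprimes h.coprime_card hrE hzK
  rcases hr with rfl | rfl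
  · exact hp.ne_one hr1
  · exact hq.ne_one hr1

/-- A fixed-point-free group of even order has one involution, which inverts the abelian
group acted on. -/
theorem IsFpf.unique_involution [Finite K] [Nontrivial K] {φ : E →* MulAut K} (h : IsFpf φ)
    {s t : E} (hs : orderOf s = 2) (ht : orderOf t = 2) : s = t := by
  have key : ∀ u : E, orderOf u = 2 → ∀ k, φ u k = k⁻¹ := fun u hu => by
    have hu1 : u ≠ 1 := fun e => by rw [e, orderOf_one] at hu; omega
    refine fpf_inv (φ u) (h u hu1) ?_
    rw [← map_mul, ← pow_two, ← hu, pow_orderOf_eq_one, map_one]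
  exact h.injective (MulEquiv.ext fun k => (key s hs k).trans (key t ht k).symm)

/-- A commutative fixed-point-free group of automorphisms is cyclic. -/
theorem IsFpf.isCyclic_of_comm [Finite E] [Finite K] [Nontrivial K] {φ : E →* MulAut K}
    (h : IsFpf φ) (hc : ∀ a b : E, a * b = b * a) : IsCyclic E := by
  classical
  haveI := Fintype.ofFinite E
  have hprime : ∀ p : ℕ, p.Prime → (Finset.univ.filter fun a : E => a ^ p = 1).card ≤ p := by
    intro p hp
    by_contra hlt
    push Not at hlt
    haveI : Fact p.Prime := ⟨hp⟩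
    obtain ⟨a, ha, ha1⟩ := Finset.exists_mem_ne (by have := hp.one_lt; omega) (1 : E) (s := Finset.univ.filter fun a : E => a ^ p = 1)
    simp only [Finset.mem_filter, Finset.mem_univ, true_and] at ha
    have hoa : orderOf a = p := orderOf_eq_prime ha ha1
    obtain ⟨b, hb, hba⟩ := Finset.exists_mem_notMem_of_card_lt_card
      (s := Finset.univ.filter fun x : E => x ∈ Subgroup.zpowers a)
      (t := Finset.univ.filter fun a : E => a ^ p = 1) (by
        rw [← Fintype.card_subtype, ← Nat.card_eq_fintype_card, Nat.card_zpowers, hoa]; exact hlt)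
    simp only [Finset.mem_filter, Finset.mem_univ, true_and] at hb hba
    have hb1 : b ≠ 1 := fun e => hba (e ▸ one_mem _)
    have hob : orderOf b = p := orderOf_eq_prime hb hb1
    have hn : Subgroup.zpowers a ≤ Subgroup.normalizer (Subgroup.zpowers b : Set E) := by
      intro x _
      rw [Subgroup.mem_normalizer_iff]
      intro y
      rw [hc x y, mul_inv_cancel_right]
    set S := Subgroup.zpowers a ⊔ Subgroup.zpowers b with hS
    have hSp : IsPGroup p S := (IsPGroup.of_card (n := 1) (by rw [Nat.card_zpowers, hoa, pow_one]))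
      |>.to_sup_of_normal_right' (IsPGroup.of_card (n := 1) (by rw [Nat.card_zpowers, hob, pow_one])) hn
    obtain ⟨n, hn2⟩ := IsPGroup.iff_card.1 hSp
    have hexp : ∀ x ∈ S, x ^ p = 1 := by
      intro x hx
      let f : E →* E := { toFun := fun y => y ^ p, map_one' := one_pow p,
                          map_mul' := fun y z => (Commute.mul_pow (hc y z) p) }
      have : S ≤ f.ker := sup_le (Subgroup.zpowers_le.2 ha) (Subgroup.zpowers_le.2 hb)
      exact this hx
    have hn3 : 2 ≤ n := by
      by_contra hn4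
      have hle : Nat.card S ≤ p := by
        rw [hn2]; exact le_trans (Nat.pow_le_pow_right hp.pos (show n ≤ 1 by omega)) (pow_one p).le
      exact hba (Subgroup.eq_of_le_of_card_ge (le_sup_left : Subgroup.zpowers a ≤ S)
        (by rw [Nat.card_zpowers, hoa]; exact hle) ▸ Subgroup.mem_sup_right (Subgroup.mem_zpowers b))
    obtain ⟨T, hT⟩ := Sylow.exists_subgroup_card_pow_prime (G := S) p (n := 2)
      (by rw [hn2]; exact pow_dvd_pow p hn3)
    have hcyc := (h.comp (S.subtype.comp T.subtype) (S.subtype_injective.comp T.subtype_injective))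
      |>.isCyclic_of_card hp hp (by rw [hT, pow_two])
    obtain ⟨g, hg⟩ := hcyc.exists_ofOrder_eq_natCard
    have : orderOf g ∣ p := orderOf_dvd_of_pow_eq_one
      (Subtype.ext (Subtype.ext (hexp _ (g : S).2)))
    rw [hg, hT] at this
    have := Nat.le_of_dvd hp.pos this
    have := hp.one_lt
    nlinarith
  have hall : ∀ n : ℕ, 0 < n → (Finset.univ.filter fun a : E => a ^ n = 1).card ≤ n := by
    intro n
    induction n using Nat.strongRecOn with
    | _ n ih =>
      intro hn
      rcases eq_or_ne n 1 with rfl | hn1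
      · refine Finset.card_le_one.2 fun a ha b hb => ?_
        simp only [Finset.mem_filter, Finset.mem_univ, true_and, pow_one] at ha hb
        rw [ha, hb]
      obtain ⟨p, hp, m, rfl⟩ := Nat.exists_prime_and_dvd hn1
      have hm : 0 < m := Nat.pos_of_ne_zero fun e => by simp [e] at hn
      refine le_trans (Finset.card_le_mul_card_image (f := fun a : E => a ^ p) _ p ?_)
        (Nat.mul_le_mul_left p (le_trans (Finset.card_le_card ?_)
          (ih m (lt_mul_of_one_lt_left hm hp.one_lt) hm)))
      · intro c hc'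
        obtain ⟨a₀, -, rfl⟩ := Finset.mem_image.1 hc'
        refine le_trans (Finset.card_le_card_of_injOn (fun a => a₀⁻¹ * a) ?_ ?_) (hprime p hp)
        · intro a ha
          simp only [Finset.coe_filter, Set.mem_ofPred_eq, Finset.mem_filter, Finset.mem_univ,
            true_and] at ha ⊢
          rw [Commute.mul_pow (hc a₀⁻¹ a), inv_pow, ha.2, inv_mul_cancel]
        · exact fun a _ b _ e => mul_left_cancel e
      · intro c hc'
        obtain ⟨a₀, ha₀, rfl⟩ := Finset.mem_image.1 hc'
        simp only [Finset.mem_filter, Finset.mem_univ, true_and] at ha₀ ⊢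
        rw [← pow_mul, ha₀]
  exact isCyclic_of_card_pow_eq_one_le hall

end CfsgLib.Frobenius
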