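import Mathlib.GroupTheory.SemidirectProduct
import Mathlib.GroupTheory.Complement
import Mathlib.Algebra.Group.Shrink
import Mathlib.Logic.Small.Basic
import Cfsg.Agent.Frobenius.Basic
import Cfsg.Agent.Frobenius.Fpf

/-!
Frobenius groups as semidirect products with fixed-point-free actions.
-/

set_option autoImplicit false
set_option linter.style.haveILetI false

namespace CfsgLib.Frobenius

open Subgroup
open scoped Pointwise

section
variable {G : Type*} [Group G]

/-- Transport of a Frobenius complement along an isomorphism. -/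
theorem map_equiv {G' : Type*} [Group G'] {H : Subgroup G}
    (hH : Cfsg.IsFrobeniusComplement H) (e : G ≃* G') :
    Cfsg.IsFrobeniusComplement (H.map e.toMonoidHom) := by
  refine ⟨fun h => hH.1 ((Subgroup.map_eq_bot_iff_of_injective H e.injective).1 h), fun h => hH.2.1 ?_,
    fun g hg => ?_⟩
  · refine (Subgroup.eq_top_iff' H).2 fun x => ?_
    have hm : e x ∈ H.map e.toMonoidHom := by rw [h]; trivial
    obtain ⟨y, hy, hxy⟩ := hm
    rwa [← e.injective hxy]
  · rw [eq_bot_iff]
    rintro x ⟨hx1, hx2'⟩
    rw [Subgroup.mem_bot]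
    by_contra hx
    have hx2 := mem_conj_iff.1 hx2'
    obtain ⟨g, rfl⟩ := e.surjective g
    obtain ⟨y, hy, rfl⟩ := hx1
    obtain ⟨w, hw, hwe⟩ := hx2
    have hwe' : e w = e (g⁻¹ * y * g) := by simpa [map_mul, map_inv] using hwe
    refine hg ⟨g, mem_of_conj_mem hH (fun e1 => hx (by simp [e1])) hy ?_, rfl⟩
    rwa [← e.injective hwe']

/-- For a complement `H` of a normal subgroup `K` acting fixed-point-freely, `H` is a Frobenius
complement. -/
theorem of_fpf {K H : Subgroup G} [K.Normal] (hc : IsComplement' K H) (hK : K ≠ ⊥) (hH : H ≠ ⊥)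
    (hfpf : ∀ h ∈ H, h ≠ 1 → ∀ k ∈ K, h * k = k * h → k = 1) :
    Cfsg.IsFrobeniusComplement H := by
  refine ⟨hH, fun h => hK ?_, fun g hg => ?_⟩
  · exact (Subgroup.isComplement'_top_right).1 (h ▸ hc)
  · rw [eq_bot_iff]
    rintro x ⟨hx1, hx2'⟩
    rw [Subgroup.mem_bot]
    by_contra hx
    have hx2 := mem_conj_iff.1 hx2'
    obtain ⟨⟨k, h⟩, rfl⟩ := hc.2 g
    simp only at hx2 hg
    have hy : (k : G)⁻¹ * x * k ∈ H := by
      have := mul_mem (mul_mem h.2 hx2) (inv_mem h.2)
      simpa [mul_assoc] using this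
    have hzK : x⁻¹ * ((k : G)⁻¹ * x * k) ∈ K := by
      have := mul_mem ((inferInstance : K.Normal).conj_mem _ (inv_mem k.2) x⁻¹) k.2
      simpa [mul_assoc] using this
    have hz1 : x⁻¹ * ((k : G)⁻¹ * x * k) = 1 :=
      (Subgroup.disjoint_def.1 hc.disjoint) hzK (mul_mem (inv_mem hx1) hy)
    have hcomm : x * (k : G) = (k : G) * x := by
      have := congrArg (fun w => (k : G) * x * w) hz1
      simpa [mul_assoc] using this
    refine hg ?_
    rw [hfpf x hx1 hx k k.2 hcomm, one_mul]
    exact h.2

/-- Nontrivial elements of a Frobenius complement centralize nothing nontrivial in a normal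
subgroup meeting the complement trivially. -/
theorem eq_one_of_commute {K H : Subgroup G} (hH : Cfsg.IsFrobeniusComplement H) (hd : K ⊓ H = ⊥)
    {h k : G} (hh : h ∈ H) (hh1 : h ≠ 1) (hk : k ∈ K) (hc : h * k = k * h) : k = 1 := by
  refine Subgroup.mem_bot.1 (hd ▸ ⟨hk, centralizer_le hH hh hh1 ?_⟩)
  rw [Subgroup.mem_centralizer_singleton_iff]
  exact hc.symm

/-- A normal complement of a Frobenius complement is the Frobenius kernel. -/
theorem kernel_eq [Finite G] {K H : Subgroup G} [K.Normal] (hH : Cfsg.IsFrobeniusComplement H)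
    (hc : IsComplement' K H) : Cfsg.frobeniusKernel H = (K : Set G) := by
  symm
  have hsub : (K : Set G) ⊆ Cfsg.frobeniusKernel H := by
    intro k hk
    by_cases h1 : k = 1
    · exact Or.inl h1
    refine Or.inr fun g hg => h1 ?_
    rw [mem_conj_iff] at hg
    have hk' : g⁻¹ * k * g ∈ K := by
      simpa using (inferInstance : K.Normal).conj_mem k hk g⁻¹
    have h2 : g⁻¹ * k * g = 1 := (Subgroup.disjoint_def.1 hc.disjoint) hk' hg
    simpa [mul_assoc] using congrArg (fun w => g * w * g⁻¹) h2
  refine Set.eq_of_subset_of_ncard_le hsub ?_ (Set.toFinite _)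
  rw [← Nat.card_coe_set_eq, ← Nat.card_coe_set_eq, card_frobeniusKernel hH,
    hc.index_eq_card]
  rfl

end

variable {E V : Type*} [Group E] [Group V]

/-- The complement `E` in `V ⋊ E` for a fixed-point-free action. -/
theorem inr_range_isFrobeniusComplement [Nontrivial E] [Nontrivial V] {φ : E →* MulAut V}
    (h : IsFpf φ) :
    Cfsg.IsFrobeniusComplement (SemidirectProduct.inr : E →* V ⋊[φ] E).range ∧
    (SemidirectProduct.inl : V →* V ⋊[φ] E).range.Normal ∧
      IsComplement' (SemidirectProduct.inl : V →* V ⋊[φ] E).range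
        (SemidirectProduct.inr : E →* V ⋊[φ] E).range := by
  have hN : (SemidirectProduct.inl : V →* V ⋊[φ] E).range.Normal := by
    rw [SemidirectProduct.range_inl_eq_ker_rightHom]; infer_instance
  have hd : Disjoint (SemidirectProduct.inl : V →* V ⋊[φ] E).range
      (SemidirectProduct.inr : E →* V ⋊[φ] E).range := by
    rw [disjoint_iff, eq_bot_iff]
    rintro _ ⟨⟨v, rfl⟩, ⟨e, he⟩⟩
    have := congrArg SemidirectProduct.left he
    simp only [SemidirectProduct.left_inr, SemidirectProduct.left_inl] at this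
    rw [Subgroup.mem_bot, ← this, map_one]
  have hc : IsComplement' (SemidirectProduct.inl : V →* V ⋊[φ] E).range
        (SemidirectProduct.inr : E →* V ⋊[φ] E).range := by
    refine isComplement'_of_disjoint_and_mul_eq_univ hd (Set.eq_univ_of_forall fun x => ?_)
    exact ⟨_, ⟨x.left, rfl⟩, _, ⟨x.right, rfl⟩, SemidirectProduct.inl_left_mul_inr_right x⟩
  refine ⟨?_, hN, hc⟩
  haveI := hN
  refine of_fpf hc ?_ ?_ ?_
  · obtain ⟨v, hv⟩ := exists_ne (1 : V)
    intro hb
    have hm : SemidirectProduct.inl v ∈ (SemidirectProduct.inl : V →* V ⋊[φ] E).range := ⟨v, rfl⟩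
    rw [hb, Subgroup.mem_bot, ← map_one (SemidirectProduct.inl : V →* V ⋊[φ] E)] at hm
    exact hv (SemidirectProduct.inl_injective hm)
  · obtain ⟨e, he⟩ := exists_ne (1 : E)
    intro hb
    have hm : SemidirectProduct.inr e ∈ (SemidirectProduct.inr : E →* V ⋊[φ] E).range := ⟨e, rfl⟩
    rw [hb, Subgroup.mem_bot, ← map_one (SemidirectProduct.inr : E →* V ⋊[φ] E)] at hm
    exact he (SemidirectProduct.inr_injective hm)
  · rintro _ ⟨e, rfl⟩ he _ ⟨v, rfl⟩ hev
    have h2 := congrArg SemidirectProduct.left hev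
    simp only [SemidirectProduct.mul_left, SemidirectProduct.left_inr, SemidirectProduct.right_inr,
      SemidirectProduct.left_inl, SemidirectProduct.right_inl, map_one, one_mul, mul_one] at h2
    rw [h e (fun e1 => he (by rw [e1, map_one])) v h2, map_one]

/-- A nontrivial finite group acting fixed-point-freely on a nontrivial finite group is abstractly
a Frobenius complement, inside a group in `Type`, with kernel of the order of the group acted on. -/
theorem exists_complement_of_fpf [Finite E] [Nontrivial E] [Finite V] [Nontrivial V]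
    {φ : E →* MulAut V} (h : IsFpf φ) :
    ∃ (L : Type) (_ : Group L) (_ : Finite L) (C : Subgroup L), Cfsg.IsFrobeniusComplement C ∧
      Nonempty (E ≃* C) ∧ Nat.card (Cfsg.frobeniusKernel C) = Nat.card V := by
  let S := V ⋊[φ] E
  haveI : Finite S := Finite.of_equiv _ SemidirectProduct.equivProd.symm
  let f : S ≃* Shrink.{0} S := (Shrink.mulEquiv).symm
  haveI : Finite (Shrink.{0} S) := Finite.of_equiv _ f.toEquiv
  obtain ⟨hF, hN, hc⟩ := inr_range_isFrobeniusComplement h
  refine ⟨Shrink.{0} S, inferInstance, inferInstance, _, map_equiv hF f,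
    ⟨(MonoidHom.ofInjective SemidirectProduct.inr_injective).trans
      (Subgroup.equivMapOfInjective _ f.toMonoidHom f.injective)⟩, ?_⟩
  rw [card_frobeniusKernel (map_equiv hF f)]
  rw [show (Subgroup.map f.toMonoidHom (SemidirectProduct.inr : E →* S).range).index =
      (SemidirectProduct.inr : E →* S).range.index from Subgroup.index_map_equiv _ f,
    hc.index_eq_card]
  exact Nat.card_congr (MonoidHom.ofInjective SemidirectProduct.inl_injective).symm.toEquiv

/-- The conjugation action of a Frobenius complement on a normal complement is fixed point free. -/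
theorem exists_fpf_of_normal_complement {G : Type*} [Group G] {K H : Subgroup G} [hKN : K.Normal]
    (hH : Cfsg.IsFrobeniusComplement H) (hd : K ⊓ H = ⊥) :
    ∃ φ : H →* MulAut K, IsFpf φ ∧ ∀ (h : H) (k : K), (φ h k : G) = h * k * (h : G)⁻¹ := by
  refine ⟨MulAut.conjNormal.comp H.subtype, fun h hh k hk => ?_, fun h k => MulAut.conjNormal_apply _ _⟩
  refine Subtype.ext (eq_one_of_commute hH hd h.2 (fun e => hh (Subtype.ext e)) k.2 ?_)
  have h1 : (h : G) * (k : G) * (h : G)⁻¹ = (k : G) := by
    have := congrArg Subtype.val hk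
    rwa [MonoidHom.comp_apply, MulAut.conjNormal_apply, Subgroup.coe_subtype] at this
  rw [← mul_inv_eq_iff_eq_mul]
  exact h1

end CfsgLib.Frobenius
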