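import Mathlib.LinearAlgebra.Matrix.SpecialLinearGroup
import Mathlib.LinearAlgebra.Matrix.NonsingularInverse
import Mathlib.LinearAlgebra.Matrix.ToLinearEquiv
import Mathlib.LinearAlgebra.Matrix.CharP
import Mathlib.Algebra.CharP.Lemmas
import Mathlib.Tactic.LinearCombination
import Mathlib.Tactic.FinCases
import Cfsg.Agent.Frobenius.Semidirect

/-!
Frobenius complements from fixed-point-free additive or linear actions.
-/

set_option autoImplicit false
set_option linter.style.haveILetI false

namespace CfsgLib.Frobenius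

variable {G M : Type*} [Group G] [AddCommGroup M]

/-- An additive representation as automorphisms of the multiplicative copy. -/
def addRepAut (ρ : G →* AddMonoid.End M) : G →* MulAut (Multiplicative M) where
  toFun g :=
    { toFun := fun x => Multiplicative.ofAdd (ρ g (Multiplicative.toAdd x))
      invFun := fun x => Multiplicative.ofAdd (ρ g⁻¹ (Multiplicative.toAdd x))
      left_inv := fun x => by
        show Multiplicative.ofAdd (ρ g⁻¹ (ρ g (Multiplicative.toAdd x))) = x
        rw [show ρ g⁻¹ (ρ g (Multiplicative.toAdd x)) = (ρ g⁻¹ * ρ g) (Multiplicative.toAdd x) from rfl,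
          ← map_mul, inv_mul_cancel, map_one]
        rfl
      right_inv := fun x => by
        show Multiplicative.ofAdd (ρ g (ρ g⁻¹ (Multiplicative.toAdd x))) = x
        rw [show ρ g (ρ g⁻¹ (Multiplicative.toAdd x)) = (ρ g * ρ g⁻¹) (Multiplicative.toAdd x) from rfl,
          ← map_mul, mul_inv_cancel, map_one]
        rfl
      map_mul' := fun x y => map_add (ρ g) _ _ }
  map_one' := by
    ext x
    show Multiplicative.ofAdd (ρ 1 (Multiplicative.toAdd x)) = x
    rw [map_one]
    rfl
  map_mul' a b := by
    ext x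
    show Multiplicative.ofAdd (ρ (a * b) (Multiplicative.toAdd x)) = _
    rw [map_mul]
    rfl

/-- A fixed-point-free additive representation on a nontrivial finite group gives a Frobenius
complement. -/
theorem exists_complement_of_addRep [Finite G] [Nontrivial G] [Finite M] [Nontrivial M]
    (ρ : G →* AddMonoid.End M) (h : ∀ g : G, g ≠ 1 → ∀ v : M, ρ g v = v → v = 0) :
    ∃ (L : Type) (_ : Group L) (_ : Finite L) (C : Subgroup L), Cfsg.IsFrobeniusComplement C ∧
      Nonempty (G ≃* C) ∧ Nat.card (Cfsg.frobeniusKernel C) = Nat.card M := by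
  have hf : IsFpf (addRepAut ρ) := fun g hg x hx =>
    Multiplicative.toAdd.injective (h g hg _ (congrArg Multiplicative.toAdd hx))
  obtain ⟨L, hG, hF, C, hC, he, hk⟩ := exists_complement_of_fpf hf
  exact ⟨L, hG, hF, C, hC, he, hk.trans (Nat.card_congr Multiplicative.toAdd)⟩

open Matrix in
/-- A `2 × 2` matrix of determinant one and order prime to the characteristic has no nonzero
fixed vector unless it is the identity. -/
theorem sl2_fixed_eq_zero {F : Type*} [Field F] (l : ℕ) [Fact l.Prime] [CharP F l]
    {m : Matrix (Fin 2) (Fin 2) F} (hdet : m.det = 1) (hm : m ≠ 1) {k : ℕ} (hk : ¬ l ∣ k)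
    (hpow : m ^ k = 1) {v : Fin 2 → F} (hv : m.mulVec v = v) : v = 0 := by
  by_contra hv0
  have h0 : (m - 1).det = 0 := by
    rw [← Matrix.exists_mulVec_eq_zero_iff]
    exact ⟨v, hv0, by rw [Matrix.sub_mulVec, Matrix.one_mulVec, hv, sub_self]⟩
  rw [Matrix.det_fin_two] at h0 hdet
  simp only [Matrix.sub_apply, Matrix.one_apply_eq, ne_eq, Fin.zero_eq_one_iff,
    OfNat.ofNat_ne_one, not_false_eq_true, Matrix.one_apply_ne, sub_zero,
    Fin.one_eq_zero_iff] at h0
  have htr : m 0 0 + m 1 1 = 2 := by linear_combination -h0 + hdet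
  have hsq : (m - 1) * (m - 1) = 0 := by
    ext i j
    fin_cases i <;> fin_cases j <;>
      simp [Matrix.mul_apply, Fin.sum_univ_two] <;> grind
  haveI : CharP (Matrix (Fin 2) (Fin 2) F) l := inferInstance
  have hl : m ^ l = 1 := by
    have h1 := sub_pow_char_of_commute (Commute.one_right m) (p := l)
    rw [one_pow] at h1
    obtain ⟨j, hj⟩ := Nat.exists_eq_add_of_le' (Fact.out : l.Prime).two_le
    rw [hj, pow_add, pow_two (m - 1), hsq, mul_zero] at h1
    rw [hj]
    exact sub_eq_zero.1 h1.symm
  have h1 : orderOf m ∣ l := orderOf_dvd_of_pow_eq_one hl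
  rcases (Nat.dvd_prime (Fact.out : l.Prime)).1 h1 with h2 | h2
  · exact hm (orderOf_eq_one_iff.1 h2)
  · exact hk (h2 ▸ orderOf_dvd_of_pow_eq_one hpow)

/-- A finite subgroup of `SL(2,F)` of order prime to the characteristic is a Frobenius
complement. -/
theorem exists_complement_of_SL2 [Finite G] [Nontrivial G] {F : Type*} [Field F] [Finite F]
    (l : ℕ) [Fact l.Prime] [CharP F l] (hl : ¬ l ∣ Nat.card G)
    (f : G →* Matrix (Fin 2) (Fin 2) F) (hdet : ∀ g, (f g).det = 1)
    (hinj : ∀ g, f g = 1 → g = 1) :
    ∃ (L : Type) (_ : Group L) (_ : Finite L) (C : Subgroup L), Cfsg.IsFrobeniusComplement C ∧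
      Nonempty (G ≃* C) ∧ Nat.card (Cfsg.frobeniusKernel C) = Nat.card (Fin 2 → F) := by
  let ρ : G →* AddMonoid.End (Fin 2 → F) :=
    { toFun := fun g =>
        ({ toFun := fun v => (f g).mulVec v
           map_zero' := Matrix.mulVec_zero _
           map_add' := fun v w => Matrix.mulVec_add _ v w } : (Fin 2 → F) →+ (Fin 2 → F))
      map_one' := by
        refine AddMonoidHom.ext fun v => ?_
        show (f 1).mulVec v = v
        rw [map_one, Matrix.one_mulVec]
      map_mul' := fun a b => by
        refine AddMonoidHom.ext fun v => ?_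
        show (f (a * b)).mulVec v = (f a).mulVec ((f b).mulVec v)
        rw [map_mul, Matrix.mulVec_mulVec] }
  refine exists_complement_of_addRep ρ fun g hg v hv => ?_
  exact sl2_fixed_eq_zero l (hdet g) (fun e => hg (hinj g e)) hl
    (by rw [← map_pow, pow_card_eq_one', map_one]) hv

end CfsgLib.Frobenius
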