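import Mathlib
import Cfsg.Agent.Frobenius.Semidirect
import Cfsg.Agent.Char.FrobeniusKernel

/-! Fixed-point-free representations in characteristic zero from those in coprime characteristic. -/

set_option autoImplicit false
set_option linter.style.haveILetI false

namespace CfsgLib.Frobenius.CharZero

open MonoidAlgebra

section Alg

variable {G : Type*} [Group G] (k : Type*) [CommRing k]

/-- The sum of the powers of `g`. -/
noncomputable def cycSum (g : G) : MonoidAlgebra k G :=
  ∑ i ∈ Finset.range (orderOf g), MonoidAlgebra.of k G (g ^ i)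

theorem cycSum_map {k' : Type*} [CommRing k'] (f : k →+* k') (g : G) :
    MonoidAlgebra.mapRingHom G f (cycSum k g) = cycSum k' g := by
  simp [cycSum, map_sum]

theorem cycSum_mul_of [Finite G] (g : G) :
    cycSum k g * MonoidAlgebra.of k G g = cycSum k g := by
  have hn : 0 < orderOf g := orderOf_pos g
  obtain ⟨m, hm⟩ : ∃ m, orderOf g = m + 1 := ⟨orderOf g - 1, by omega⟩
  have h1 : g ^ (m + 1) = 1 := hm ▸ pow_orderOf_eq_one g
  simp only [cycSum, Finset.sum_mul, ← map_mul, ← pow_succ, hm]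
  rw [Finset.sum_range_succ, Finset.sum_range_succ' (fun i => MonoidAlgebra.of k G (g ^ i)), h1, pow_zero]

theorem cycSum_mul_self [Finite G] (g : G) :
    cycSum k g * cycSum k g = (orderOf g : k) • cycSum k g := by
  have h : ∀ i : ℕ, cycSum k g * MonoidAlgebra.of k G (g ^ i) = cycSum k g := by
    intro i
    induction i with
    | zero => rw [pow_zero, map_one, mul_one]
    | succ i ih => rw [pow_succ, map_mul, ← mul_assoc, ih, cycSum_mul_of]
  conv_lhs => arg 2; rw [cycSum]
  rw [Finset.mul_sum, Finset.sum_congr rfl (fun i _ => h i), Finset.sum_const, Finset.card_range,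
    Nat.cast_smul_eq_nsmul]

theorem map_term (a g b : G) :
    MonoidAlgebra.mapRingHom G (Int.castRingHom k)
        (MonoidAlgebra.of ℤ G a * cycSum ℤ g * MonoidAlgebra.of ℤ G b) =
      MonoidAlgebra.of k G a * cycSum k g * MonoidAlgebra.of k G b := by
  simp only [map_mul, cycSum_map]
  simp

end Alg

section Modular

variable {G : Type*} [Group G] [Finite G]

/-- A fixed-point-free representation in characteristic `q` prime to `|G|` shows that `1` is not in
the span of the `x N_g y` in characteristic zero. -/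
theorem one_notMem_span (q : ℕ) [Fact q.Prime] (hq : ¬ q ∣ Nat.card G)
    {M : Type*} [AddCommGroup M] [Module (ZMod q) M] [Nontrivial M]
    (σ : G →* Module.End (ZMod q) M) (hσ : ∀ g : G, g ≠ 1 → ∀ v, σ g v = v → v = 0)
    (K : Type*) [Field K] [CharZero K] :
    (1 : MonoidAlgebra K G) ∉ Submodule.span K (Set.range fun i : G × {g : G // g ≠ 1} × G =>
      MonoidAlgebra.of K G i.1 * cycSum K i.2.1.1 * MonoidAlgebra.of K G i.2.2) := by
  classical
  haveI := Fintype.ofFinite G
  intro hmem
  -- the integral identity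
  let X : G × {g : G // g ≠ 1} × G → MonoidAlgebra ℤ G := fun i =>
    MonoidAlgebra.of ℤ G i.1 * cycSum ℤ i.2.1.1 * MonoidAlgebra.of ℤ G i.2.2
  obtain ⟨c, hc⟩ := (Submodule.mem_span_range_iff_exists_fun K).1 hmem
  have hcoef : ∀ h : G, ∑ i, c i * ((X i).coeff h : K) = if h = 1 then 1 else 0 := by
    intro h
    have := congrArg (fun z : MonoidAlgebra K G => z.coeff h) hc
    simp only [MonoidAlgebra.coeff_sum, Finsupp.finset_sum_apply, MonoidAlgebra.coeff_smul,
      Finsupp.smul_apply, smul_eq_mul] at this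
    have hXc : ∀ i : G × {g : G // g ≠ 1} × G, (MonoidAlgebra.of K G i.1 * cycSum K i.2.1.1 *
        MonoidAlgebra.of K G i.2.2).coeff h = (((X i).coeff h : ℤ) : K) := fun i => by
      rw [← map_term]; simp [X]
    simp only [hXc] at this
    simpa [MonoidAlgebra.one_def, Finsupp.single_apply, eq_comm] using this
  obtain ⟨π, hπ⟩ := LinearMap.exists_leftInverse_of_injective (Algebra.linearMap ℚ K)
    (LinearMap.ker_eq_bot.2 (algebraMap ℚ K).injective)
  have hπ1 : ∀ r : ℚ, π (algebraMap ℚ K r) = r := fun r => DFunLike.congr_fun hπ r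
  have hrat : ∀ h : G, ∑ i, π (c i) * ((X i).coeff h : ℚ) = if h = 1 then 1 else 0 := by
    intro h
    have := congrArg π (hcoef h)
    rw [map_sum] at this
    refine Eq.trans (Finset.sum_congr rfl fun i _ => ?_) (this.trans ?_)
    · rw [show c i * (((X i).coeff h : ℤ) : K) = ((X i).coeff h : ℤ) • c i by rw [zsmul_eq_mul, mul_comm],
        map_zsmul, zsmul_eq_mul, mul_comm]
    · split
      · rw [← map_one (algebraMap ℚ K), hπ1]
      · rw [map_zero]
  set D : ℕ := ∏ i, (π (c i)).den with hD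
  have hDpos : 0 < D := Finset.prod_pos fun i _ => (π (c i)).den_pos
  have hz : ∀ i, ∃ z : ℤ, (D : ℚ) * π (c i) = z := by
    intro i
    obtain ⟨t, ht⟩ : (π (c i)).den ∣ D := Finset.dvd_prod_of_mem _ (Finset.mem_univ i)
    refine ⟨(π (c i)).num * t, ?_⟩
    rw [ht, Nat.cast_mul, mul_comm (((π (c i)).den : ℕ) : ℚ), mul_assoc, mul_comm (((π (c i)).den : ℕ) : ℚ),
      Rat.mul_den_eq_num, Int.cast_mul, mul_comm]
    push_cast
    ring
  choose z hz using hz
  have hint : ∀ h : G, ∑ i, z i * (X i).coeff h = if h = 1 then (D : ℤ) else 0 := by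
    intro h
    have h1 := congrArg (fun r : ℚ => (D : ℚ) * r) (hrat h)
    simp only [Finset.mul_sum, ← mul_assoc, hz] at h1
    split_ifs with hh
    · rw [if_pos hh, mul_one] at h1; exact_mod_cast h1
    · rw [if_neg hh, mul_zero] at h1; exact_mod_cast h1
  have hid : ∑ i, z i • X i = (D : ℤ) • (1 : MonoidAlgebra ℤ G) := by
    refine MonoidAlgebra.ext (Finsupp.ext fun h => ?_)
    simp only [MonoidAlgebra.coeff_sum, Finsupp.finset_sum_apply, MonoidAlgebra.coeff_smul,
      Finsupp.smul_apply, smul_eq_mul, hint]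
    simp [MonoidAlgebra.one_def, Finsupp.single_apply, eq_comm]
  -- modulo `q`
  haveI : NeZero (Nat.card G : ZMod q) := ⟨fun h => hq ((ZMod.natCast_eq_zero_iff _ _).1 h)⟩
  haveI : IsSemisimpleRing (MonoidAlgebra (ZMod q) G) :=
    (inferInstance : IsSemisimpleModule (MonoidAlgebra (ZMod q) G) (MonoidAlgebra (ZMod q) G))
  set pi := MonoidAlgebra.lift (ZMod q) (Module.End (ZMod q) M) G σ with hpi
  have hN : ∀ g : G, g ≠ 1 → pi (cycSum (ZMod q) g) = 0 := by
    intro g hg
    refine LinearMap.ext fun v => ?_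
    refine hσ g hg _ ?_
    have e : pi (MonoidAlgebra.of (ZMod q) G g * cycSum (ZMod q) g) = pi (cycSum (ZMod q) g) := by
      congr 1
      have hcomm : MonoidAlgebra.of (ZMod q) G g * cycSum (ZMod q) g =
          cycSum (ZMod q) g * MonoidAlgebra.of (ZMod q) G g := by
        simp only [cycSum, Finset.mul_sum, Finset.sum_mul, ← map_mul, ← pow_succ, ← pow_succ']
      rw [hcomm, cycSum_mul_of]
    rw [map_mul, hpi, MonoidAlgebra.lift_of] at e
    exact DFunLike.congr_fun e v
  obtain ⟨f, hf, hJ⟩ := IsSemisimpleRing.ideal_eq_span_idempotent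
    (RingHom.ker pi.toRingHom : Ideal (MonoidAlgebra (ZMod q) G))
  have hmem : ∀ r, pi r = 0 ↔ r ∈ Ideal.span {f} := fun r => by rw [← hJ]; exact Iff.rfl
  have hfJ : pi f = 0 := (hmem f).2 (Ideal.mem_span_singleton_self f)
  have hright : ∀ r, pi r = 0 → r * f = r := fun r hr => by
    obtain ⟨a, rfl⟩ := Submodule.mem_span_singleton.1 ((hmem r).1 hr)
    rw [smul_eq_mul, mul_assoc, hf.eq]
  obtain ⟨f', hf'⟩ : ∃ f', pi f' = 0 ∧ ∀ r, pi r = 0 → f' * r = r := by
    haveI : IsSemisimpleRing (MonoidAlgebra (ZMod q) G)ᵐᵒᵖ := inferInstance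
    obtain ⟨g₀, hg₀, hJ'⟩ := IsSemisimpleRing.ideal_eq_span_idempotent
      ((RingHom.ker pi.toRingHom.op : Ideal (MonoidAlgebra (ZMod q) G)ᵐᵒᵖ))
    have hmem' : ∀ r, pi.toRingHom.op r = 0 ↔ r ∈ Ideal.span {g₀} := fun r => by rw [← hJ']; exact Iff.rfl
    refine ⟨g₀.unop, ?_, fun r hr => ?_⟩
    · have := (hmem' g₀).2 (Ideal.mem_span_singleton_self g₀)
      exact congrArg MulOpposite.unop this
    · obtain ⟨a, ha⟩ := Submodule.mem_span_singleton.1 ((hmem' (MulOpposite.op r)).1 (congrArg MulOpposite.op hr))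
      rw [smul_eq_mul] at ha
      have : r = g₀.unop * a.unop := by rw [← MulOpposite.unop_mul, ha, MulOpposite.unop_op]
      rw [this, ← mul_assoc, show g₀.unop * g₀.unop = g₀.unop by
        rw [← MulOpposite.unop_mul, hg₀.eq]]
  have hff : f' = f := (hright f' hf'.1).symm.trans (hf'.2 f hfJ)
  have hcent : ∀ r, r * f = f * r := by
    intro r
    have e1 : f * (r * f) = r * f := hff ▸ hf'.2 (r * f) (by rw [map_mul, hfJ, mul_zero])
    have e2 : f * r * f = f * r := hright (f * r) (by rw [map_mul, hfJ, zero_mul])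
    rw [← e1, ← mul_assoc, e2]
  set x := (1 : MonoidAlgebra (ZMod q) G) - f with hx
  have hxne : x ≠ 0 := by
    intro h
    rw [hx, sub_eq_zero] at h
    rw [← h, map_one] at hfJ
    exact one_ne_zero hfJ
  have hxid : IsIdempotentElem x := hf.one_sub
  have hxN : ∀ g : G, g ≠ 1 → x * cycSum (ZMod q) g = 0 := fun g hg => by
    rw [hx, sub_mul, one_mul, ← hcent, hright _ (hN g hg), sub_self]
  -- modulo `q ^ n`
  set n := D + 1 with hn
  set qn := q ^ n with hqn
  have hq0 : q ≠ 0 := (Fact.out : q.Prime).ne_zero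
  haveI : NeZero qn := ⟨pow_ne_zero _ hq0⟩
  let cst : ZMod qn →+* ZMod q := ZMod.castHom (dvd_pow_self q (Nat.succ_ne_zero D)) (ZMod q)
  let red := MonoidAlgebra.mapRingHom G cst
  let R := Subring.center (MonoidAlgebra (ZMod qn) G)
  have hker : ∀ r, red r = 0 → IsNilpotent r := by
    intro r hr
    have hdiv : ∀ h, (q : ZMod qn) ∣ r.coeff h := by
      intro h
      have := congrArg (fun z : MonoidAlgebra (ZMod q) G => z.coeff h) hr
      simp [red, cst] at this
      rw [ZMod.cast_eq_val, ZMod.natCast_eq_zero_iff] at this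
      obtain ⟨t, ht⟩ := this
      exact ⟨t, by rw [← ZMod.natCast_zmod_val (r.coeff h), ht, Nat.cast_mul]⟩
    choose t ht using hdiv
    refine ⟨n, ?_⟩
    have e : r = (q : ZMod qn) • MonoidAlgebra.ofCoeff (Finsupp.equivFunOnFinite.symm t) := by
      refine MonoidAlgebra.ext (Finsupp.ext fun h => ?_)
      simp [ht h]
    rw [e, smul_pow, ← Nat.cast_pow, ZMod.natCast_self, zero_smul]
  obtain ⟨x', hx'⟩ : ∃ x' : R, red x'.1 = x := by
    let x₀ : MonoidAlgebra (ZMod qn) G :=
      MonoidAlgebra.ofCoeff (Finsupp.equivFunOnFinite.symm fun h => ((x.coeff h).val : ZMod qn))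
    have hx₀ : ∀ h, x₀.coeff h = ((x.coeff h).val : ZMod qn) := fun h => by simp [x₀]
    have hxc : ∀ a h : G, x.coeff (h * a⁻¹) = x.coeff (a⁻¹ * h) := by
      intro a h
      have hxx : x * MonoidAlgebra.single a 1 = MonoidAlgebra.single a 1 * x := by
        rw [hx, sub_mul, mul_sub, one_mul, mul_one, hcent]
      have := congrArg (fun z : MonoidAlgebra (ZMod q) G => z.coeff h) hxx
      simpa using this
    have hcen : ∀ y, y * x₀ = x₀ * y := by
      intro y
      induction y using MonoidAlgebra.induction_linear with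
      | zero => simp
      | add a b ha hb => rw [add_mul, mul_add, ha, hb]
      | single a r =>
        refine MonoidAlgebra.ext (Finsupp.ext fun h => ?_)
        simp [hx₀, hxc, mul_comm]
    refine ⟨⟨x₀, Subring.mem_center_iff.2 hcen⟩, MonoidAlgebra.ext (Finsupp.ext fun h => ?_)⟩
    simp [red, cst, hx₀]
  obtain ⟨e, he, hex⟩ := exists_isIdempotentElem_eq_of_ker_isNilpotent (red.comp R.subtype)
    (fun r hr => by
      obtain ⟨m, hm⟩ := hker r.1 hr
      exact ⟨m, Subtype.ext (by rw [SubmonoidClass.coe_pow, hm]; rfl)⟩)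
    x ⟨x', hx'⟩ hxid
  have hex' : red e.1 = x := hex
  have hecen : ∀ y, y * e.1 = e.1 * y := Subring.mem_center_iff.1 e.2
  have hee : e.1 * e.1 = e.1 := congrArg Subtype.val he.eq
  have heN : ∀ g : G, g ≠ 1 → e.1 * cycSum (ZMod qn) g = 0 := by
    intro g hg
    set N := cycSum (ZMod qn) g
    obtain ⟨m, hm⟩ := hker (e.1 * N) (by rw [map_mul, hex', cycSum_map, hxN g hg])
    have hsucc : ∀ j, (e.1 * N) ^ (j + 1) = ((orderOf g : ZMod qn) ^ j) • (e.1 * N) := by
      intro j
      induction j with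
      | zero => simp
      | succ j ih =>
        rw [pow_succ, ih, smul_mul_assoc, mul_assoc e.1, ← mul_assoc N e.1, hecen N, mul_assoc e.1 N,
          cycSum_mul_self, ← mul_assoc e.1 e.1, hee, mul_smul_comm, smul_smul, ← pow_succ]
    have hu : IsUnit (orderOf g : ZMod qn) := by
      rw [ZMod.isUnit_iff_coprime]
      refine Nat.Coprime.pow_right _ (Nat.Coprime.symm ((Fact.out : q.Prime).coprime_iff_not_dvd.2 fun h => hq ?_))
      exact h.trans (orderOf_dvd_natCard g)
    have h0 := hsucc m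
    rw [pow_succ, hm, zero_mul] at h0
    exact (hu.pow m).smul_eq_zero.1 h0.symm
  have hDe : (D : ZMod qn) • e.1 = 0 := by
    have h1 := congrArg (MonoidAlgebra.mapRingHom G (Int.castRingHom (ZMod qn))) hid
    rw [map_sum, map_zsmul, map_one] at h1
    have h2 := congrArg (fun y => y * e.1) h1
    simp only [Finset.sum_mul, smul_mul_assoc, one_mul, map_zsmul, X, map_term] at h2
    rw [Nat.cast_smul_eq_nsmul, ← natCast_zsmul, ← h2]
    refine Finset.sum_eq_zero fun i _ => ?_
    rw [mul_assoc _ _ e.1, hecen, ← mul_assoc, mul_assoc _ (cycSum _ _) e.1,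
      hecen (cycSum _ _), heN _ i.2.1.2, mul_zero, zero_mul, smul_zero]
  obtain ⟨h, hh⟩ : ∃ h, x.coeff h ≠ 0 := by
    by_contra hall
    push Not at hall
    exact hxne (MonoidAlgebra.ext (Finsupp.ext fun h => by simp [hall h]))
  have hu : IsUnit (e.1.coeff h) := by
    rw [← ZMod.natCast_zmod_val (e.1.coeff h), ZMod.isUnit_iff_coprime]
    refine Nat.Coprime.pow_right _ (Nat.Coprime.symm ((Fact.out : q.Prime).coprime_iff_not_dvd.2 fun hd => hh ?_))
    have := congrArg (fun z : MonoidAlgebra (ZMod q) G => z.coeff h) hex'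
    simp [red, cst] at this
    rw [← this, ZMod.cast_eq_val, ZMod.natCast_eq_zero_iff]
    exact hd
  have h0 := congrArg (fun z : MonoidAlgebra (ZMod qn) G => z.coeff h) hDe
  simp only [MonoidAlgebra.coeff_smul, Finsupp.smul_apply, smul_eq_mul, MonoidAlgebra.coeff_zero,
    Finsupp.zero_apply] at h0
  have hD0 : (D : ZMod qn) = 0 := (hu.mul_left_eq_zero).1 h0
  rw [ZMod.natCast_eq_zero_iff] at hD0
  have h1 := Nat.le_of_dvd hDpos hD0
  have h2 : D + 1 < q ^ n := Nat.lt_pow_self (Fact.out : q.Prime).one_lt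
  omega

/-- A fixed-point-free representation in coprime characteristic gives an irreducible one over an
algebraically closed field of characteristic zero. -/
theorem exists_irreducible (q : ℕ) [Fact q.Prime] (hq : ¬ q ∣ Nat.card G)
    {M : Type*} [AddCommGroup M] [Module (ZMod q) M] [Nontrivial M]
    (σ : G →* Module.End (ZMod q) M) (hσ : ∀ g : G, g ≠ 1 → ∀ v, σ g v = v → v = 0)
    (K : Type*) [Field K] [CharZero K] :
    ∃ (n : ℕ) (ρ : G →* GL (Fin n) K), 0 < n ∧ Function.Injective ρ ∧
      (∀ W : Submodule K (Fin n → K),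
        (∀ g : G, ∀ w ∈ W, ((ρ g : GL (Fin n) K) : Matrix (Fin n) (Fin n) K).mulVec w ∈ W) →
          W = ⊥ ∨ W = ⊤) ∧
      ∀ g : G, g ≠ 1 → ∀ v : Fin n → K,
        ((ρ g : GL (Fin n) K) : Matrix (Fin n) (Fin n) K).mulVec v = v → v = 0 := by
  classical
  haveI := Fintype.ofFinite G
  set I := Submodule.span K (Set.range fun i : G × {g : G // g ≠ 1} × G =>
      MonoidAlgebra.of K G i.1 * cycSum K i.2.1.1 * MonoidAlgebra.of K G i.2.2) with hI
  have hIinv : ∀ a : G, ∀ z ∈ I, MonoidAlgebra.of K G a * z ∈ I := by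
    intro a z hz
    induction hz using Submodule.span_induction with
    | mem y hy =>
      obtain ⟨⟨b, g, c⟩, rfl⟩ := hy
      exact Submodule.subset_span ⟨⟨a * b, g, c⟩, by simp only [map_mul, mul_assoc]⟩
    | zero => rw [mul_zero]; exact I.zero_mem
    | add y z _ _ hy hz => rw [mul_add]; exact I.add_mem hy hz
    | smul r y _ hy => rw [mul_smul_comm]; exact I.smul_mem r hy
  have hIN : ∀ (g : G), g ≠ 1 → ∀ z, cycSum K g * z ∈ I := by
    intro g hg z
    induction z using MonoidAlgebra.induction_linear with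
    | zero => rw [mul_zero]; exact I.zero_mem
    | add y z hy hz => rw [mul_add]; exact I.add_mem hy hz
    | single c r =>
      rw [show MonoidAlgebra.single c r = r • MonoidAlgebra.of K G c by simp, mul_smul_comm]
      exact I.smul_mem r (Submodule.subset_span ⟨⟨1, ⟨g, hg⟩, c⟩, by
        show MonoidAlgebra.of K G 1 * _ * _ = _
        rw [map_one, one_mul]⟩)
  haveI : Module.Finite K (MonoidAlgebra K G) :=
    Module.Finite.equiv (Finsupp.linearEquivFunOnFinite K K G |>.symm.trans
      (MonoidAlgebra.coeffLinearEquiv K).symm)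
  let T : G →* Module.End K (MonoidAlgebra K G ⧸ I) :=
    { toFun := fun g => I.mapQ I (LinearMap.mulLeft K (MonoidAlgebra.of K G g)) (fun z hz => hIinv g z hz)
      map_one' := by
        refine Submodule.linearMap_qext _ (LinearMap.ext fun z => ?_)
        show Submodule.Quotient.mk (MonoidAlgebra.of K G 1 * z) = Submodule.Quotient.mk z
        rw [map_one, one_mul]
      map_mul' := fun a b => by
        refine Submodule.linearMap_qext _ (LinearMap.ext fun z => ?_)
        show Submodule.Quotient.mk (MonoidAlgebra.of K G (a * b) * z) =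
          Submodule.Quotient.mk (MonoidAlgebra.of K G a * (MonoidAlgebra.of K G b * z))
        rw [map_mul, mul_assoc] }
  haveI : Nontrivial (MonoidAlgebra K G ⧸ I) := Submodule.Quotient.nontrivial_iff.2 fun h =>
    one_notMem_span q hq σ hσ K (by show (1 : MonoidAlgebra K G) ∈ I; rw [h]; exact Submodule.mem_top)
  have hfpf : ∀ g : G, g ≠ 1 → ∀ v, T g v = v → v = 0 := by
    intro g hg v hv
    obtain ⟨z, rfl⟩ := Submodule.Quotient.mk_surjective I v
    have hpow : ∀ i : ℕ, Submodule.Quotient.mk (p := I) (MonoidAlgebra.of K G (g ^ i) * z) =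
        Submodule.Quotient.mk z := by
      intro i
      induction i with
      | zero => rw [pow_zero, map_one, one_mul]
      | succ i ih =>
        show T (g ^ (i + 1)) (Submodule.Quotient.mk z) = _
        rw [pow_succ, map_mul, Module.End.mul_apply, hv]
        exact ih
    have h0 : Submodule.Quotient.mk (p := I) (cycSum K g * z) = (orderOf g : K) • Submodule.Quotient.mk z := by
      rw [cycSum, Finset.sum_mul, ← Submodule.mkQ_apply, map_sum]
      simp only [Submodule.mkQ_apply, hpow, Finset.sum_const, Finset.card_range, Nat.cast_smul_eq_nsmul]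
    rw [(Submodule.Quotient.mk_eq_zero I).2 (hIN g hg z), eq_comm, smul_eq_zero] at h0
    exact h0.resolve_left (Nat.cast_ne_zero.2 (orderOf_pos g).ne')
  -- a minimal invariant subspace
  have hex : ∃ d, ∃ U : Submodule K (MonoidAlgebra K G ⧸ I), (∀ g, ∀ u ∈ U, T g u ∈ U) ∧ U ≠ ⊥ ∧
      Module.finrank K U = d := ⟨_, ⊤, fun _ _ _ => Submodule.mem_top, top_ne_bot, rfl⟩
  obtain ⟨U, hUinv, hU0, hUd⟩ := Nat.find_spec hex
  let d := Module.finrank K U
  let b := Module.finBasis K U
  let TU : G →* Module.End K U :=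
    { toFun := fun g => (T g).restrict (hUinv g)
      map_one' := LinearMap.ext fun u => Subtype.ext (by
        show T 1 u.1 = u.1
        rw [map_one, Module.End.one_apply])
      map_mul' := fun a c => LinearMap.ext fun u => Subtype.ext (by
        show T (a * c) u.1 = T a (T c u.1)
        rw [map_mul, Module.End.mul_apply]) }
  let ρ : G →* GL (Fin d) K :=
    ((LinearMap.toMatrixAlgEquiv b).toMonoidHom.comp TU).toHomUnits
  have happ : ∀ (g : G) (v : Fin d → K),
      ((ρ g : GL (Fin d) K) : Matrix (Fin d) (Fin d) K).mulVec v = b.equivFun (TU g (b.equivFun.symm v)) := by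
    intro g v
    have := LinearMap.toMatrix_mulVec_repr b b (TU g) (b.equivFun.symm v)
    show (LinearMap.toMatrix b b (TU g)).mulVec v = _
    have e : ⇑(b.repr (b.equivFun.symm v)) = v := by
      rw [← b.equivFun_apply, LinearEquiv.apply_symm_apply]
    rw [e] at this
    exact this
  have hd : 0 < d := Module.finrank_pos_iff.2 (Submodule.nontrivial_iff_ne_bot.2 hU0)
  have hfix : ∀ g : G, g ≠ 1 → ∀ v : Fin d → K,
      ((ρ g : GL (Fin d) K) : Matrix (Fin d) (Fin d) K).mulVec v = v → v = 0 := by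
    intro g hg v hv
    rw [happ, ← LinearEquiv.eq_symm_apply] at hv
    have := hfpf g hg _ (congrArg Subtype.val hv)
    exact b.equivFun.symm.map_eq_zero_iff.1 (Subtype.ext this)
  refine ⟨d, ρ, hd, ?_, fun W hW => ?_, hfix⟩
  · rw [← MonoidHom.ker_eq_bot_iff, Subgroup.eq_bot_iff_forall]
    intro g hg
    by_contra hne
    have h1 := hfix g hne (Pi.single ⟨0, hd⟩ 1) (by
      rw [MonoidHom.mem_ker.1 hg, Units.val_one, Matrix.one_mulVec])
    exact one_ne_zero (α := K) (by simpa using congrFun h1 ⟨0, hd⟩)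
  · set W' : Submodule K (MonoidAlgebra K G ⧸ I) := (W.map b.equivFun.symm.toLinearMap).map U.subtype
    have hle : W' ≤ U := Submodule.map_subtype_le _ _
    have hinv : ∀ g, ∀ u ∈ W', T g u ∈ W' := by
      rintro g _ ⟨u, ⟨w, hw, rfl⟩, rfl⟩
      refine ⟨TU g (b.equivFun.symm w), ⟨_, hW g w hw, ?_⟩, rfl⟩
      show b.equivFun.symm _ = _
      rw [happ, LinearEquiv.symm_apply_apply]
    by_cases h0 : W' = ⊥
    · left
      rw [Submodule.eq_bot_iff]
      intro w hw
      have : (b.equivFun.symm w : MonoidAlgebra K G ⧸ I) ∈ W' := ⟨_, ⟨w, hw, rfl⟩, rfl⟩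
      rw [h0, Submodule.mem_bot] at this
      exact b.equivFun.symm.map_eq_zero_iff.1 (Subtype.ext this)
    · right
      have h1 : Nat.find hex ≤ Module.finrank K W' := Nat.find_le ⟨W', hinv, h0, rfl⟩
      have h2 : W' = U := Submodule.eq_of_le_of_finrank_le hle (hUd.trans_le h1)
      rw [eq_top_iff]
      intro v _
      have : (b.equivFun.symm v : MonoidAlgebra K G ⧸ I) ∈ W' := by rw [h2]; exact (b.equivFun.symm v).2
      obtain ⟨u, ⟨w, hw, rfl⟩, he⟩ := this
      rwa [← b.equivFun.symm.injective (Subtype.ext he)]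

end Modular

/-- A Frobenius complement acts fixed-point-freely on a non-trivial elementary abelian group of
order prime to its order. -/
theorem exists_modular {L : Type*} [Group L] [Finite L] {H : Subgroup L}
    (hH : Cfsg.IsFrobeniusComplement H) :
    ∃ (q : ℕ) (_ : Fact q.Prime) (W : Subgroup L) (φ : H →* MulAut W), ¬ q ∣ Nat.card H ∧
      W ≠ ⊥ ∧ IsMulCommutative W ∧ (∀ w : W, w ^ q = 1) ∧ IsFpf φ := by
  obtain ⟨K, hKn, hKH, -, hc, hKmem⟩ := CfsgLib.Char.exists_frobenius_kernel H fun g hg h hh hgh =>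
    by_contra fun hne => hg (by
      have h' := mem_of_conj_mem hH (g := g) (x := g * h * g⁻¹)
        (fun e => hne (conj_eq_one_iff.1 e)) hgh
        (by simpa [mul_assoc] using hh)
      exact h')
  haveI := hKn
  have hcop : (Nat.card H).Coprime (Nat.card K) := by
    rw [← hc.index_eq_card]; exact coprime_card_index hH
  have hK1 : 1 < Nat.card K := hc.index_eq_card ▸ one_lt_index hH
  obtain ⟨q, hqp, hqK⟩ := Nat.exists_prime_and_dvd hK1.ne'
  haveI : Fact q.Prime := ⟨hqp⟩
  obtain ⟨Q⟩ : Nonempty (Sylow q K) := inferInstance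
  set Qm := (Q : Subgroup K).map K.subtype with hQm
  set N := Subgroup.normalizer (Qm : Set L)
  have hidx : (K.subgroupOf N).index = Nat.card H := by
    rw [← hc.symm.index_eq_card]
    show K.relIndex N = _
    rw [← Subgroup.relIndex_sup_left, sup_comm, Sylow.normalizer_sup_eq_top, Subgroup.relIndex_top_right]
  have hcN : Nat.card (K.subgroupOf N) ∣ Nat.card K := by
    let j : K.subgroupOf N →* K :=
      { toFun := fun x => ⟨x.1.1, x.2⟩
        map_one' := rfl
        map_mul' := fun _ _ => rfl }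
    exact Subgroup.card_dvd_of_injective j fun x y h =>
      Subtype.ext (Subtype.ext (congrArg (fun t : K => (t : L)) h))
  obtain ⟨C₀, hC₀⟩ := Subgroup.exists_right_complement'_of_coprime (N := K.subgroupOf N)
    (hidx ▸ (hcop.symm.coprime_dvd_left hcN))
  set C := C₀.map N.subtype with hC
  have hCcard : Nat.card C = Nat.card H := by
    rw [Subgroup.card_map_of_injective N.subtype_injective, ← hC₀.symm.index_eq_card, hidx]
  have hCK : K ⊓ C = ⊥ := Subgroup.inf_eq_bot_of_coprime (hCcard ▸ hcop.symm)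
  have hCN : C ≤ N := Subgroup.map_subtype_le _
  -- `C ≅ H` through `L / K`
  let f : C →* L ⧸ K := (QuotientGroup.mk' K).comp C.subtype
  let g : H →* L ⧸ K := (QuotientGroup.mk' K).comp H.subtype
  have hbij : ∀ (S : Subgroup L), K ⊓ S = ⊥ → Nat.card S = Nat.card H →
      Function.Bijective ((QuotientGroup.mk' K).comp S.subtype) := by
    intro S hS hcard
    rw [Nat.bijective_iff_injective_and_card]
    refine ⟨?_, ?_⟩
    · rw [← MonoidHom.ker_eq_bot_iff, Subgroup.eq_bot_iff_forall]
      intro s hs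
      exact Subtype.ext (Subgroup.mem_bot.1 (hS ▸ ⟨(QuotientGroup.eq_one_iff _).1 hs, s.2⟩))
    · rw [hcard, ← Subgroup.index_eq_card, hc.symm.index_eq_card]
  let e : H ≃* C := (MulEquiv.ofBijective g (hbij H hKH rfl)).trans
    (MulEquiv.ofBijective f (hbij C hCK hCcard)).symm
  -- the elementary abelian subgroup
  let Z := (Subgroup.center (Q : Subgroup K)).map (K.subtype.comp (Q : Subgroup K).subtype)
  let W : Subgroup L :=
    { carrier := {w | w ∈ Z ∧ w ^ q = 1}
      one_mem' := ⟨Z.one_mem, one_pow q⟩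
      mul_mem' := fun {a b} ha hb => ⟨Z.mul_mem ha.1 hb.1, by
        obtain ⟨a', ha', rfl⟩ := ha.1
        obtain ⟨b', hb', rfl⟩ := hb.1
        have hcm : Commute a' b' := Subgroup.mem_center_iff.1 hb' a'
        rw [(hcm.map _).mul_pow, ha.2, hb.2, one_mul]⟩
      inv_mem' := fun {a} ha => ⟨Z.inv_mem ha.1, by rw [inv_pow, ha.2, inv_one]⟩ }
  have hWK : ∀ w ∈ W, w ∈ K := by
    rintro w ⟨⟨z, -, rfl⟩, -⟩
    exact z.1.2
  have hWcomm : IsMulCommutative W := ⟨⟨fun a b => Subtype.ext (by
    obtain ⟨a', ha', hae⟩ := a.2.1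
    obtain ⟨b', hb', hbe⟩ := b.2.1
    show a.1 * b.1 = b.1 * a.1
    rw [← hae, ← hbe]
    exact ((show Commute a' b' from Subgroup.mem_center_iff.1 hb' a').map _).eq)⟩⟩
  have hW0 : W ≠ ⊥ := by
    haveI : Nontrivial (Q : Subgroup K) := (Subgroup.nontrivial_iff_ne_bot _).2 (Q.ne_bot_of_dvd_card hqK)
    haveI := Q.2.center_nontrivial
    obtain ⟨z, hz⟩ := exists_prime_orderOf_dvd_card' (G := Subgroup.center (Q : Subgroup K)) q
      ((Q.2.to_subgroup _).card_eq_or_dvd.resolve_left Finite.one_lt_card.ne')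
    intro hbot
    have hinj : Function.Injective (K.subtype.comp (Q : Subgroup K).subtype) :=
      K.subtype_injective.comp (Q : Subgroup K).subtype_injective
    have hm : (K.subtype.comp (Q : Subgroup K).subtype) z.1 ∈ W := by
      refine ⟨⟨z.1, z.2, rfl⟩, ?_⟩
      have hz' := pow_orderOf_eq_one z
      rw [hz] at hz'
      rw [← map_pow, ← Subgroup.coe_pow, hz', OneMemClass.coe_one, map_one]
    rw [hbot, Subgroup.mem_bot, ← map_one (K.subtype.comp (Q : Subgroup K).subtype), hinj.eq_iff] at hm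
    rw [show z = 1 from Subtype.ext hm, orderOf_one] at hz
    exact hqp.one_lt.ne hz
  have hWinv : ∀ c ∈ C, ∀ w ∈ W, c * w * c⁻¹ ∈ W := by
    intro c hc w hw
    refine ⟨?_, by rw [conj_pow, hw.2, mul_one, mul_inv_cancel]⟩
    have hcQ := hCN hc
    obtain ⟨z, hz, rfl⟩ := hw.1
    have hm : c * (z.1.1 : L) * c⁻¹ ∈ Qm :=
      (Subgroup.mem_normalizer_iff.1 hcQ _).1 ⟨z.1, z.2, rfl⟩
    obtain ⟨y, hy, hye⟩ := hm
    refine ⟨⟨y, hy⟩, Subgroup.mem_center_iff.2 fun u => ?_, hye⟩
    have hu : c⁻¹ * (u.1.1 : L) * c ∈ Qm :=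
      (Subgroup.mem_normalizer_iff''.1 hcQ _).1 ⟨u.1, u.2, rfl⟩
    obtain ⟨u', hu', hue⟩ := hu
    have hcu : (u' : L) * (z.1.1 : L) = (z.1.1 : L) * (u' : L) :=
      congrArg (fun t : (Q : Subgroup K) => (t.1.1 : L)) (Subgroup.mem_center_iff.1 hz ⟨u', hu'⟩)
    apply Subtype.ext; apply Subtype.ext
    show (u.1.1 : L) * (y : L) = (y : L) * (u.1.1 : L)
    rw [show (y : L) = c * (z.1.1 : L) * c⁻¹ from hye,
      show (u.1.1 : L) = c * (u' : L) * c⁻¹ by rw [show (u' : L) = c⁻¹ * (u.1.1 : L) * c from hue]; group]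
    simp only [conj_mul, hcu]
  let conjW : C → W →* W := fun c =>
    { toFun := fun w => ⟨c.1 * w.1 * c.1⁻¹, hWinv c.1 c.2 w.1 w.2⟩
      map_one' := Subtype.ext (by simp)
      map_mul' := fun a b => Subtype.ext (by simp [conj_mul]) }
  let φC : C →* MulAut W :=
    { toFun := fun c =>
        { toFun := conjW c
          invFun := conjW c⁻¹
          left_inv := fun w => Subtype.ext (by simp [conjW, mul_assoc])
          right_inv := fun w => Subtype.ext (by simp [conjW, mul_assoc])
          map_mul' := map_mul (conjW c) }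
      map_one' := MulEquiv.ext fun w => Subtype.ext (by simp [conjW])
      map_mul' := fun a b => MulEquiv.ext fun w => Subtype.ext (by simp [conjW, mul_assoc]) }
  refine ⟨q, inferInstance, W, φC.comp e.toMonoidHom, ?_, hW0, hWcomm, fun w => Subtype.ext w.2.2, ?_⟩
  · exact fun h => hqp.ne_one (Nat.dvd_one.1 (hcop ▸ Nat.dvd_gcd h hqK))
  · intro h hh w hw
    set c := e h
    have hc1 : (c : L) ≠ 1 := fun e' => hh (e.injective (by rw [map_one]; exact Subtype.ext e'))
    have hnK : (c : L) ∉ K := fun hk => hc1 (Subgroup.mem_bot.1 (hCK ▸ ⟨hk, c.2⟩))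
    obtain ⟨x, hx⟩ : ∃ x : L, x⁻¹ * c * x ∈ H := by
      by_contra hn
      push Not at hn
      exact hnK ((hKmem c).2 (Or.inr hn))
    have hcw : (c : L) * w * (c : L)⁻¹ = w := congrArg Subtype.val hw
    have h1 := eq_one_of_commute hH hKH hx (k := x⁻¹ * (w : L) * x)
      (fun e' => hc1 (by simpa [mul_assoc] using congrArg (fun t => x * t * x⁻¹) e'))
      (by simpa using hKn.conj_mem _ (hWK _ w.2) x⁻¹)
      (by
        calc x⁻¹ * c * x * (x⁻¹ * w * x) = x⁻¹ * (c * w) * x := by group
          _ = x⁻¹ * (w * c) * x := by rw [mul_inv_eq_iff_eq_mul.1 hcw]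
          _ = x⁻¹ * w * x * (x⁻¹ * c * x) := by group)
    exact Subtype.ext (by simpa [mul_assoc] using congrArg (fun t => x * t * x⁻¹) h1)

end CfsgLib.Frobenius.CharZero
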