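import Mathlib
import Cfsg.Agent.Frobenius.CharZero
import Cfsg.Agent.Frobenius.Linear
import Cfsg.Agent.Solvable.FpfComplement

/-! Direct products of Frobenius complements of coprime orders. -/

set_option autoImplicit false
set_option linter.style.haveILetI false

namespace CfsgLib.Frobenius.Product

open Matrix

/-- A fixed-point-free action on a nontrivial torsion-free abelian group gives a Frobenius
complement. -/
theorem exists_complement_of_torsionFree {G : Type*} [Group G] [Finite G] [Nontrivial G]
    {V : Type*} [AddCommGroup V] [Module ℂ V] [Nontrivial V] (ρ : G →* AddMonoid.End V)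
    (hfpf : ∀ g : G, g ≠ 1 → ∀ v : V, ρ g v = v → v = 0) :
    ∃ (L : Type) (_ : Group L) (_ : Finite L) (C : Subgroup L),
      Cfsg.IsFrobeniusComplement C ∧ Nonempty (G ≃* C) := by
  classical
  obtain ⟨l, hl1, hl⟩ := Nat.exists_infinite_primes (Nat.card G + 1)
  have hlG : ¬ l ∣ Nat.card G := fun hd => by
    have := Nat.le_of_dvd Nat.card_pos hd
    omega
  obtain ⟨v0, hv0⟩ := exists_ne (0 : V)
  let val : G → V := fun g => ρ g v0
  set S : Submodule ℤ V := Submodule.span ℤ (Set.range val) with hS
  haveI : Module.Finite ℤ S := Module.Finite.span_of_finite ℤ (Set.finite_range val)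
  have hmul : ∀ h : G, ∀ v ∈ S, (ρ h : V →+ V).toIntLinearMap v ∈ S := by
    intro h v hv
    induction hv using Submodule.span_induction with
    | mem x hx =>
      obtain ⟨k, rfl⟩ := hx
      exact Submodule.subset_span ⟨h * k, by show ρ (h * k) v0 = ρ h (ρ k v0); rw [map_mul]; rfl⟩
    | zero => simp
    | add x y _ _ hx hy => rw [map_add]; exact S.add_mem hx hy
    | smul r x _ hx => rw [map_smul]; exact S.smul_mem r hx
  let act : G → (S →ₗ[ℤ] S) := fun h => ((ρ h : V →+ V).toIntLinearMap).restrict (hmul h)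
  let T : Submodule ℤ S := LinearMap.range ((l : ℤ) • (LinearMap.id : S →ₗ[ℤ] S))
  have hT : ∀ h : G, T ≤ T.comap (act h) := by
    rintro h _ ⟨v, rfl⟩
    exact ⟨act h v, by simp⟩
  let σ : G →* AddMonoid.End (S ⧸ T) :=
    { toFun := fun h => (T.mapQ T (act h) (hT h)).toAddMonoidHom
      map_one' := by
        refine AddMonoidHom.ext fun v => ?_
        induction v using Submodule.Quotient.induction_on with
        | _ v =>
          show Submodule.Quotient.mk (act 1 v) = Submodule.Quotient.mk v
          congr 1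
          exact Subtype.ext (by show ρ 1 v.1 = v.1; rw [map_one]; rfl)
      map_mul' := fun a b => by
        refine AddMonoidHom.ext fun v => ?_
        induction v using Submodule.Quotient.induction_on with
        | _ v =>
          show Submodule.Quotient.mk (act (a * b) v) = Submodule.Quotient.mk (act a (act b v))
          congr 1
          exact Subtype.ext (by show ρ (a * b) v.1 = ρ a (ρ b v.1); rw [map_mul]; rfl) }
  haveI : Finite (S ⧸ T) := by
    refine Module.finite_of_fg_torsion (S ⧸ T) fun x => ?_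
    induction x using Submodule.Quotient.induction_on with
    | _ v =>
      refine ⟨⟨(l : ℤ), mem_nonZeroDivisors_of_ne_zero (by exact_mod_cast hl.ne_zero)⟩, ?_⟩
      show (l : ℤ) • (Submodule.Quotient.mk v : S ⧸ T) = 0
      rw [← Submodule.Quotient.mk_smul, Submodule.Quotient.mk_eq_zero]
      exact ⟨v, rfl⟩
  have hone : v0 ∈ S := Submodule.subset_span ⟨1, by show ρ 1 v0 = v0; rw [map_one]; rfl⟩
  haveI : Nontrivial (S ⧸ T) := by
    refine Submodule.Quotient.nontrivial_iff.2 fun hTop => ?_
    have hle : (⊤ : Submodule ℤ S) ≤ Ideal.span {(l : ℤ)} • (⊤ : Submodule ℤ S) := by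
      intro v _
      obtain ⟨w, hw⟩ : v ∈ T := hTop ▸ Submodule.mem_top
      rw [← hw]
      exact Submodule.smul_mem_smul (Ideal.subset_span rfl) Submodule.mem_top
    obtain ⟨r, hr1, hr2⟩ := Submodule.exists_sub_one_mem_and_smul_eq_zero_of_fg_of_le_smul
      (Ideal.span {(l : ℤ)}) (⊤ : Submodule ℤ S) Module.Finite.fg_top hle
    have hr3 : r • v0 = 0 := congrArg Subtype.val (hr2 ⟨v0, hone⟩ Submodule.mem_top)
    rw [← Int.cast_smul_eq_zsmul ℂ, smul_eq_zero] at hr3
    have hr0 : r = 0 := Int.cast_eq_zero.1 (hr3.resolve_right hv0)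
    rw [Ideal.mem_span_singleton, hr0, zero_sub, dvd_neg] at hr1
    exact hl.ne_one (Nat.dvd_one.1 (Int.natCast_dvd_natCast.1 (by exact_mod_cast hr1)))
  obtain ⟨L, hG, hF, C, hC, he, -⟩ := CfsgLib.Frobenius.exists_complement_of_addRep σ
    (fun h hh x hx => by
      induction x using Submodule.Quotient.induction_on with
      | _ v =>
        have hv : act h v - v ∈ T := (Submodule.Quotient.eq T).1 hx
        set d := orderOf h with hd
        have hi : ∀ i : ℕ, act (h ^ i) v - v ∈ T := by
          intro i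
          induction i with
          | zero =>
            have e : act (h ^ 0) v = v :=
              Subtype.ext (by show ρ (h ^ 0) v.1 = v.1; rw [pow_zero, map_one]; rfl)
            rw [e, sub_self]; exact T.zero_mem
          | succ i ih =>
            have h2 : act h (act (h ^ i) v - v) ∈ T := hT h ih
            have e : act (h ^ (i + 1)) v = act h (act (h ^ i) v) :=
              Subtype.ext (by show ρ (h ^ (i + 1)) v.1 = ρ h (ρ (h ^ i) v.1); rw [pow_succ', map_mul]; rfl)
            rw [map_sub, ← e] at h2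
            simpa using T.add_mem h2 hv
        have hs0 : ∑ i ∈ Finset.range d, act (h ^ i) v = 0 := by
          refine Subtype.ext ?_
          rw [Submodule.coe_sum]
          show ∑ i ∈ Finset.range d, ρ (h ^ i) v.1 = 0
          refine hfpf h hh _ ?_
          rw [map_sum]
          have hshift : ∀ i : ℕ, ρ h (ρ (h ^ i) v.1) = ρ (h ^ (i + 1)) v.1 := fun i => by
            rw [pow_succ', map_mul]; rfl
          rw [Finset.sum_congr rfl fun i _ => hshift i]
          obtain ⟨m, hm⟩ : ∃ m, d = m + 1 := ⟨d - 1, by have := orderOf_pos h; omega⟩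
          rw [hm, Finset.sum_range_succ, Finset.sum_range_succ' (fun i => ρ (h ^ i) v.1), pow_zero,
            ← hm, hd, pow_orderOf_eq_one]
        have hdv : (d : ℤ) • v ∈ T := by
          have h2 : ∑ i ∈ Finset.range d, (act (h ^ i) v - v) ∈ T := T.sum_mem fun i _ => hi i
          rw [Finset.sum_sub_distrib, hs0, Finset.sum_const, Finset.card_range, zero_sub,
            T.neg_mem_iff] at h2
          rwa [natCast_zsmul]
        have hlv : (l : ℤ) • v ∈ T := ⟨v, rfl⟩
        have hco : IsCoprime (l : ℤ) (d : ℤ) := Int.isCoprime_iff_nat_coprime.2 (by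
          simpa using (hl.coprime_iff_not_dvd.2 fun e => hlG (e.trans (orderOf_dvd_natCard h))))
        obtain ⟨a, b, hab⟩ := hco
        rw [Submodule.Quotient.mk_eq_zero, ← one_smul ℤ v, ← hab, add_smul, mul_smul, mul_smul]
        exact T.add_mem (T.smul_mem a hlv) (T.smul_mem b hdv))
  exact ⟨L, hG, hF, C, hC, he⟩

/-- An action by automorphisms on a group of exponent dividing `q` as a linear action. -/
theorem zmodEnd (q : ℕ) {H W : Type*} [Group H] [CommGroup W] [Module (ZMod q) (Additive W)]
    (φ : H →* MulAut W) : ∃ σ : H →* Module.End (ZMod q) (Additive W),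
      ∀ (h : H) (x : Additive W), σ h x = Additive.ofMul (φ h x.toMul) := by
  refine ⟨{ toFun := fun h => (AddMonoidHom.mk' (fun x : Additive W => Additive.ofMul (φ h x.toMul))
        (fun x y => congrArg Additive.ofMul (map_mul (φ h) x.toMul y.toMul))).toZModLinearMap q
            map_one' := LinearMap.ext fun x => by simp
            map_mul' := fun a b => LinearMap.ext fun x => by simp }, fun h x => rfl⟩

/-- A Frobenius complement has a fixed-point-free complex representation. -/
theorem exists_complex {A : Type*} [Group A] {L : Type} [Group L] [Finite L] {H : Subgroup L}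
    (hH : Cfsg.IsFrobeniusComplement H) (e : A ≃* H) :
    ∃ (n : ℕ) (ρ : A →* GL (Fin n) ℂ), 0 < n ∧ ∀ a : A, a ≠ 1 → ∀ v : Fin n → ℂ,
      ((ρ a : GL (Fin n) ℂ) : Matrix (Fin n) (Fin n) ℂ).mulVec v = v → v = 0 := by
  obtain ⟨q, hq, W, φ, hqH, hW1, hWc, hWq, hφ⟩ := CharZero.exists_modular hH
  haveI := hWc
  letI : CommGroup W := { (inferInstance : Group W) with mul_comm := hWc.is_comm.comm }
  letI : Module (ZMod q) (Additive W) := AddCommGroup.zmodModule fun x => by
    show Additive.ofMul (Additive.toMul x ^ q) = 0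
    rw [hWq]; rfl
  haveI : Nontrivial W := (Subgroup.nontrivial_iff_ne_bot W).2 hW1
  obtain ⟨σ, hσ⟩ := zmodEnd q φ
  obtain ⟨n, ρ, hn, -, -, hρ⟩ := CharZero.exists_irreducible q hqH σ
    (fun h hh x hx => Additive.toMul.injective
      (hφ h hh _ (congrArg Additive.toMul ((hσ h x).symm.trans hx)))) ℂ
  exact ⟨n, ρ.comp e.toMonoidHom, hn, fun a ha => hρ (e a) fun h => ha (e.injective (h.trans (map_one e).symm))⟩

/-- Subgroups of Frobenius complements are Frobenius complements, abstractly. -/
theorem exists_complement_of_injective {A C : Type*} [Group A] [Nontrivial A] [Finite A] [Group C]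
    {L : Type} [Group L] [Finite L] {H : Subgroup L} (hH : Cfsg.IsFrobeniusComplement H)
    (e : C ≃* H) (f : A →* C) (hf : Function.Injective f) :
    ∃ (L' : Type) (_ : Group L') (_ : Finite L') (H' : Subgroup L'),
      Cfsg.IsFrobeniusComplement H' ∧ Nonempty (A ≃* H') := by
  obtain ⟨q, hq, W, φ, -, hW1, -, -, hφ⟩ := CharZero.exists_modular hH
  haveI : Nontrivial W := (Subgroup.nontrivial_iff_ne_bot W).2 hW1
  obtain ⟨L', h1, h2, H', h3, h4, -⟩ := exists_complement_of_fpf
    (hφ.comp (e.toMonoidHom.comp f) (e.injective.comp hf))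
  exact ⟨L', h1, h2, H', h3, h4⟩

theorem coprime_of_prod {A B : Type*} [Group A] [Finite A] [Group B] [Finite B]
    {L : Type} [Group L] [Finite L] {H : Subgroup L} (hH : Cfsg.IsFrobeniusComplement H)
    (e : (A × B) ≃* H) : (Nat.card A).Coprime (Nat.card B) := by
  obtain ⟨q, hq, W, φ, -, hW1, -, -, hφ⟩ := CharZero.exists_modular hH
  haveI : Nontrivial W := (Subgroup.nontrivial_iff_ne_bot W).2 hW1
  by_contra hco
  obtain ⟨p, hp, hpA, hpB⟩ := Nat.Prime.not_coprime_iff_dvd.1 hco
  haveI := Fact.mk hp
  obtain ⟨a, ha⟩ := exists_prime_orderOf_dvd_card' (G := A) p hpA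
  obtain ⟨b, hb⟩ := exists_prime_orderOf_dvd_card' (G := B) p hpB
  set f : (Subgroup.zpowers a) × (Subgroup.zpowers b) →* H :=
    e.toMonoidHom.comp (MonoidHom.prodMap (Subgroup.zpowers a).subtype (Subgroup.zpowers b).subtype)
  have hf : Function.Injective f := e.injective.comp
    (Function.Injective.prodMap (Subgroup.subtype_injective _) (Subgroup.subtype_injective _))
  have hE : IsPGroup p ((Subgroup.zpowers a) × (Subgroup.zpowers b)) :=
    IsPGroup.of_card_dvd_pow (n := 2) (by
      rw [Nat.card_prod, Nat.card_zpowers, Nat.card_zpowers, ha, hb, sq])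
  have := CfsgLib.FpfComplement.unique_prime_order (hφ.comp f hf) hE
    (⟨a, Subgroup.mem_zpowers a⟩, 1) (1, ⟨b, Subgroup.mem_zpowers b⟩)
    (by rw [Prod.orderOf_mk, orderOf_one, Nat.lcm_one_right, ← Subgroup.orderOf_coe]; exact ha)
    (by rw [Prod.orderOf_mk, orderOf_one, Nat.lcm_one_left, ← Subgroup.orderOf_coe]; exact hb)
  obtain ⟨k, hk⟩ := Subgroup.mem_zpowers_iff.1 this
  have h2 := congrArg (fun z => ((z.2 : Subgroup.zpowers b) : B)) hk
  simp only [Prod.pow_snd, _root_.one_zpow, OneMemClass.coe_one] at h2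
  rw [← h2, orderOf_one] at hb
  exact hp.ne_one hb.symm

theorem exists_complement_prod {A B : Type*} [Group A] [Finite A] [Nontrivial A] [Group B] [Finite B]
    [Nontrivial B] {L₁ : Type} [Group L₁] [Finite L₁] {H₁ : Subgroup L₁}
    (h₁ : Cfsg.IsFrobeniusComplement H₁) (e₁ : A ≃* H₁) {L₂ : Type} [Group L₂] [Finite L₂]
    {H₂ : Subgroup L₂} (h₂ : Cfsg.IsFrobeniusComplement H₂) (e₂ : B ≃* H₂)
    (hco : (Nat.card A).Coprime (Nat.card B)) :
    ∃ (L : Type) (_ : Group L) (_ : Finite L) (H : Subgroup L),
      Cfsg.IsFrobeniusComplement H ∧ Nonempty ((A × B) ≃* H) := by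
  obtain ⟨n, ρ, hn, hρ⟩ := exists_complex h₁ e₁
  obtain ⟨m, τ, hm, hτ⟩ := exists_complex h₂ e₂
  haveI : Nonempty (Fin n) := ⟨⟨0, hn⟩⟩
  haveI : Nonempty (Fin m) := ⟨⟨0, hm⟩⟩
  let R : A → Matrix (Fin n) (Fin n) ℂ := fun a => ((ρ a : GL (Fin n) ℂ) : Matrix (Fin n) (Fin n) ℂ)
  let T : B → Matrix (Fin m) (Fin m) ℂ := fun b => ((τ b : GL (Fin m) ℂ) : Matrix (Fin m) (Fin m) ℂ)
  let op : A × B →* AddMonoid.End (Matrix (Fin n) (Fin m) ℂ) :=
    { toFun := fun x =>
        { toFun := fun X => R x.1 * X * (T x.2)ᵀ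
          map_zero' := by simp
          map_add' := fun X Y => by rw [Matrix.mul_add, Matrix.add_mul] }
      map_one' := by
        refine AddMonoidHom.ext fun X => ?_
        show R 1 * X * (T 1)ᵀ = X
        simp [R, T]
      map_mul' := fun x y => by
        refine AddMonoidHom.ext fun X => ?_
        show R (x * y).1 * X * (T (x * y).2)ᵀ = R x.1 * (R y.1 * X * (T y.2)ᵀ) * (T x.2)ᵀ
        simp [R, T, Matrix.mul_assoc] }
  have hleft : ∀ a : A, a ≠ 1 → ∀ X : Matrix (Fin n) (Fin m) ℂ, R a * X = X → X = 0 := by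
    intro a ha X hX
    ext i j
    have := hρ a ha (fun i => X i j) (funext fun i => by
      have := congrFun (congrFun hX i) j
      rwa [Matrix.mul_apply] at this)
    exact congrFun this i
  have hright : ∀ b : B, b ≠ 1 → ∀ X : Matrix (Fin n) (Fin m) ℂ, X * (T b)ᵀ = X → X = 0 := by
    intro b hb X hX
    ext i j
    have := hτ b hb (fun j => X i j) (funext fun j => by
      have := congrFun (congrFun hX i) j
      rw [Matrix.mul_apply] at this
      simp only [Matrix.transpose_apply] at this
      show ∑ k, T b j k * X i k = X i j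
      refine Eq.trans (Finset.sum_congr rfl fun k _ => mul_comm _ _) this)
    exact congrFun this j
  refine exists_complement_of_torsionFree op fun x hx X hX => ?_
  have hpow : ∀ k : ℕ, op (x ^ k) X = X := by
    intro k
    induction k with
    | zero => rw [pow_zero, map_one]; rfl
    | succ k ih =>
      rw [pow_succ, map_mul]
      show op (x ^ k) (op x X) = X
      rw [hX, ih]
  by_cases hx1 : x.1 = 1
  · have hx2 : x.2 ≠ 1 := fun e => hx (Prod.ext hx1 e)
    refine hright x.2 hx2 X ?_
    have h : R x.1 * X * (T x.2)ᵀ = X := hX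
    simpa [R, hx1] using h
  · have hk : x.1 ^ Nat.card B ≠ 1 := fun e => hx1 (orderOf_eq_one_iff.1
      (Nat.eq_one_of_dvd_coprimes hco (orderOf_dvd_natCard _) (orderOf_dvd_of_pow_eq_one e)))
    refine hleft _ hk X ?_
    have h : R (x ^ Nat.card B).1 * X * (T (x ^ Nat.card B).2)ᵀ = X := hpow _
    simpa [R, T, pow_card_eq_one'] using h

end CfsgLib.Frobenius.Product
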