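import Mathlib
import Cfsg.Agent.Frobenius.Linear
import Cfsg.Agent.Solvable.FpfComplement
import Cfsg.Agent.Char.FrobeniusKernel

/-!
Kernels of Frobenius groups whose complement contains a quaternion group have square odd order.
-/

set_option autoImplicit false
set_option linter.style.haveILetI false

namespace CfsgLib.Frobenius.QuatKernel

open Matrix

/-- A space over `F_r`, `r` odd, with two anticommuting square roots of `-1` has even dimension. -/
theorem even_finrank {r : ℕ} (hrp : r.Prime) (hr : r ≠ 2) {V : Type*} [AddCommGroup V]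
    [Module (ZMod r) V] [Module.Finite (ZMod r) V] (I J : V →ₗ[ZMod r] V)
    (hI : ∀ v, I (I v) = -v) (hJ : ∀ v, J (J v) = -v) (hJI : ∀ v, J (I v) = -I (J v)) :
    Even (Module.finrank (ZMod r) V) := by
  haveI := Fact.mk hrp
  set d := Module.finrank (ZMod r) V
  have hJI' : J ∘ₗ I = (-1 : ZMod r) • (I ∘ₗ J) := LinearMap.ext fun v => by simp [hJI]
  have hII : I ∘ₗ I = (-1 : ZMod r) • LinearMap.id := LinearMap.ext fun v => by simp [hI]
  have hJJ : J ∘ₗ J = (-1 : ZMod r) • LinearMap.id := LinearMap.ext fun v => by simp [hJ]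
  have h1 := congrArg LinearMap.det hJI'
  rw [LinearMap.det_smul, LinearMap.det_comp, LinearMap.det_comp, mul_comm (LinearMap.det I)] at h1
  have hne : LinearMap.det J * LinearMap.det I ≠ 0 := by
    have h2 := congrArg LinearMap.det hII
    have h3 := congrArg LinearMap.det hJJ
    rw [LinearMap.det_smul, LinearMap.det_comp, LinearMap.det_id, mul_one] at h2 h3
    intro h0
    rcases mul_eq_zero.1 h0 with h0 | h0
    · rw [h0, mul_zero] at h3
      exact pow_ne_zero _ (neg_ne_zero.2 one_ne_zero) h3.symm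
    · rw [h0, mul_zero] at h2
      exact pow_ne_zero _ (neg_ne_zero.2 one_ne_zero) h2.symm
  have h4 : (-1 : ZMod r) ^ d = 1 := mul_right_cancel₀ hne (h1.symm.trans (one_mul _).symm)
  rcases Nat.even_or_odd d with h | h
  · exact h
  · rw [h.neg_one_pow] at h4
    haveI : Fact (2 < r) := ⟨lt_of_le_of_ne (Fact.out : r.Prime).two_le (Ne.symm hr)⟩
    exact absurd h4 ZMod.neg_one_ne_one

/-- An elementary abelian group of odd exponent with two anticommuting endomorphisms squaring to
inversion has square order. -/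
theorem card_elementary {r : ℕ} {A : Type*} [CommGroup A] [Finite A] (hr : r.Prime) (hr2 : r ≠ 2)
    (hexp : ∀ x : A, x ^ r = 1) (I J : A →* A) (hI : ∀ v, I (I v) = v⁻¹) (hJ : ∀ v, J (J v) = v⁻¹)
    (hJI : ∀ v, J (I v) = (I (J v))⁻¹) : ∃ e, Nat.card A = r ^ e * r ^ e := by
  letI hmod : Module (ZMod r) (Additive A) := AddCommGroup.zmodModule fun x => by
    show Additive.ofMul (x.toMul ^ r) = 0
    rw [hexp]
    rfl
  haveI hfin : Module.Finite (ZMod r) (Additive A) := Module.Finite.of_finite
  let I' : Additive A →ₗ[ZMod r] Additive A := (MonoidHom.toAdditive I).toZModLinearMap r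
  let J' : Additive A →ₗ[ZMod r] Additive A := (MonoidHom.toAdditive J).toZModLinearMap r
  have hev : Even (Module.finrank (ZMod r) (Additive A)) :=
    @even_finrank r hr hr2 (Additive A) inferInstance hmod hfin I' J'
      (fun v => Additive.toMul.injective (hI v.toMul)) (fun v => Additive.toMul.injective (hJ v.toMul))
      (fun v => Additive.toMul.injective (hJI v.toMul))
  obtain ⟨e, he⟩ := hev
  refine ⟨e, ?_⟩
  haveI := Fact.mk hr
  have hcard : Nat.card (Additive A) = Nat.card (ZMod r) ^ Module.finrank (ZMod r) (Additive A) :=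
    @Module.natCard_eq_pow_finrank (ZMod r) (Additive A) _ _ hmod hfin
  rw [Nat.card_congr Additive.toMul, Nat.card_zmod, he, pow_add] at hcard
  exact hcard

/-- An odd abelian group with two anticommuting automorphisms squaring to inversion has square
order. -/
theorem isSquare_card : ∀ (n : ℕ) (K : Type*) [CommGroup K] [Finite K] (I J : MulAut K),
    Nat.card K = n → Odd n → (∀ k, I (I k) = k⁻¹) → (∀ k, J (J k) = k⁻¹) →
    (∀ k, J (I k) = (I (J k))⁻¹) → IsSquare (Nat.card K) := by
  intro n
  induction n using Nat.strong_induction_on with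
  | _ n ih =>
    intro K _ _ I J hn hodd hI hJ hJI
    by_cases h1 : n = 1
    · rw [hn, h1]; exact IsSquare.one
    obtain ⟨r, hr, hrn⟩ := Nat.exists_prime_and_dvd h1
    haveI := Fact.mk hr
    have hr2 : r ≠ 2 := fun e => by
      subst e
      exact Nat.not_even_iff_odd.2 hodd (even_iff_two_dvd.2 hrn)
    set f : K →* K := powMonoidHom r
    have hinv : ∀ (T : MulAut K) (k : K), f (T k) = T (f k) := fun T k => (map_pow T k r).symm
    have hker : ∀ (T : MulAut K) (k : K), k ∈ f.ker → T k ∈ f.ker := fun T k hk => by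
      rw [MonoidHom.mem_ker] at hk ⊢
      rw [hinv, hk, map_one]
    have hran : ∀ (T : MulAut K) (k : K), k ∈ f.range → T k ∈ f.range := by
      rintro T _ ⟨k, rfl⟩
      exact ⟨T k, hinv T k⟩
    have hcard : Nat.card f.ker * Nat.card f.range = Nat.card K := by
      rw [← Subgroup.index_ker]; exact f.ker.card_mul_index
    have hlt : Nat.card f.range < n := by
      obtain ⟨x, hx⟩ := exists_prime_orderOf_dvd_card' (G := K) r (hn ▸ hrn)
      have h2 : 1 < Nat.card f.ker := by
        refine (Subgroup.one_lt_card_iff_ne_bot _).2 fun e => ?_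
        have : x ∈ f.ker := by
          rw [MonoidHom.mem_ker]; show x ^ r = 1; rw [← hx]; exact pow_orderOf_eq_one x
        rw [e, Subgroup.mem_bot] at this
        rw [this, orderOf_one] at hx
        exact hr.ne_one hx.symm
      rw [← hn, ← hcard]
      exact lt_mul_left Nat.card_pos h2
    obtain ⟨a, ha⟩ : IsSquare (Nat.card f.range) := by
      let res : MulAut K → MulAut f.range := fun T => MulEquiv.ofBijective
        ((T.toMonoidHom.comp f.range.subtype).codRestrict f.range fun k => hran T k k.2)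
        (Finite.injective_iff_bijective.1 fun a b hab =>
          Subtype.ext (T.injective (congrArg Subtype.val hab)))
      refine ih _ hlt f.range (res I) (res J) rfl ?_ (fun k => Subtype.ext (hI k))
        (fun k => Subtype.ext (hJ k)) (fun k => Subtype.ext (hJI k))
      exact Odd.of_dvd_nat (hn ▸ hodd) (Subgroup.card_subgroup_dvd_card _)
    -- the kernel is a vector space
    let aut : MulAut K → (f.ker →* f.ker) := fun T =>
      (T.toMonoidHom.comp f.ker.subtype).codRestrict f.ker fun k => hker T k k.2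
    obtain ⟨e, hk⟩ := card_elementary (A := f.ker) hr hr2 (fun x => Subtype.ext x.2) (aut I) (aut J)
      (fun v => Subtype.ext (hI _)) (fun v => Subtype.ext (hJ _)) (fun v => Subtype.ext (hJI _))
    exact ⟨r ^ e * a, by rw [← hcard, hk, ha]; ring⟩

/-- A fixed-point-free group containing quaternion generators acts on a group of odd square
order. -/
theorem odd_square_of_fpf {E K : Type*} [Group E] [Group K] [Finite E] [Finite K] [Nontrivial K]
    {φ : E →* MulAut K} (h : IsFpf φ) (i j z : E) (hz : z ≠ 1) (hz2 : z * z = 1) (hi : i * i = z)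
    (hj : j * j = z) (hij : j * i = z * (i * j)) : Odd (Nat.card K) ∧ IsSquare (Nat.card K) := by
  have hinv : ∀ k, φ z k = k⁻¹ := fpf_inv (φ z) (h z hz) (by rw [← map_mul, hz2, map_one])
  have hodd : Odd (Nat.card K) := by
    rw [← Nat.not_even_iff_odd, even_iff_two_dvd]
    intro h2
    have hE : 2 ∣ Nat.card E := by
      rw [← orderOf_eq_prime (p := 2) (by rw [sq]; exact hz2) hz]
      exact orderOf_dvd_natCard z
    exact absurd (Nat.eq_one_of_dvd_coprimes h.coprime_card hE h2) (by norm_num)
  letI : CommGroup K :=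
    { (inferInstance : Group K) with
      mul_comm := fun a b => by
        have := map_mul (φ z) a b
        rw [hinv, hinv, hinv, ← _root_.mul_inv_rev b a] at this
        exact inv_injective this }
  refine ⟨hodd, isSquare_card _ K (φ i) (φ j) rfl hodd (fun k => ?_) (fun k => ?_) fun k => ?_⟩
  · rw [← MulAut.mul_apply, ← map_mul, hi, hinv]
  · rw [← MulAut.mul_apply, ← map_mul, hj, hinv]
  · rw [← MulAut.mul_apply, ← map_mul, hij, map_mul, MulAut.mul_apply, hinv, map_mul,
      MulAut.mul_apply]

/-- Quaternion generators inside a noncyclic Sylow subgroup of a fixed-point-free group. -/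
theorem odd_square_of_noncyclic {E K : Type*} [Group E] [Group K] [Finite E] [Finite K] [Nontrivial K]
    {φ : E →* MulAut K} (h : IsFpf φ) (p : ℕ) [Fact p.Prime] (P : Sylow p E) (hP : ¬ IsCyclic P) :
    Odd (Nat.card K) ∧ IsSquare (Nat.card K) := by
  rcases CfsgLib.FpfComplement.sylow_cyclic_or_quaternion h p P with hc | ⟨-, n, hn, ⟨e⟩⟩
  · exact absurd hc hP
  set N : ℕ := 2 ^ n with hN
  obtain ⟨M, hM⟩ : ∃ M, N = M + M := ⟨2 ^ (n - 1), by
    rw [hN, ← two_mul, ← pow_succ']; congr 1; omega⟩
  have hMpos : 0 < N := by rw [hN]; positivity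
  let ev : QuaternionGroup N → E := fun q => ((e.symm q : (P : Subgroup E)) : E)
  have ev_mul : ∀ a b, ev a * ev b = ev (a * b) := fun a b => by simp [ev]
  have hN2 : (N : ZMod (2 * N)) + N = 0 := by
    rw [← two_mul]; exact_mod_cast ZMod.natCast_self (2 * N)
  refine odd_square_of_fpf h (ev (.a (M : ZMod (2 * N)))) (ev (.xa 0)) (ev (.a (N : ZMod (2 * N))))
    ?_ ?_ ?_ ?_ ?_
  · intro h1
    have h2 : (QuaternionGroup.a (N : ZMod (2 * N))) = 1 :=
      e.symm.injective (Subtype.ext (h1.trans (by simp)))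
    rw [QuaternionGroup.one_def] at h2
    have h3 := QuaternionGroup.a.inj h2
    rw [ZMod.natCast_eq_zero_iff] at h3
    have := Nat.le_of_dvd hMpos h3
    omega
  · rw [ev_mul, QuaternionGroup.a_mul_a, hN2]
    simp [ev]
  · rw [ev_mul, QuaternionGroup.a_mul_a]
    congr 2
    rw [← Nat.cast_add, ← hM]
  · rw [ev_mul, QuaternionGroup.xa_mul_xa, add_zero, sub_zero]
  · rw [ev_mul, ev_mul, ev_mul, QuaternionGroup.xa_mul_a, QuaternionGroup.a_mul_xa,
      QuaternionGroup.a_mul_xa, zero_add]
    congr 2
    have h4 : (M : ZMod (2 * N)) + M = N := by rw [← Nat.cast_add, ← hM]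
    linear_combination h4 + hN2

/-- The kernel of a Frobenius group whose complement has a noncyclic Sylow subgroup has odd square
order. -/
theorem odd_square_kernel {L : Type*} [Group L] [Finite L] {H : Subgroup L}
    (hF : Cfsg.IsFrobeniusComplement H) (p : ℕ) [Fact p.Prime] (P : Sylow p H) (hP : ¬ IsCyclic P) :
    Odd (Nat.card (Cfsg.frobeniusKernel H)) ∧ IsSquare (Nat.card (Cfsg.frobeniusKernel H)) := by
  obtain ⟨K, hKn, hKH, -, hc, -⟩ := CfsgLib.Char.exists_frobenius_kernel H fun g hg h hh hgh =>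
    by_contra fun hne => hg (by
      have h' := mem_of_conj_mem hF (g := g) (x := g * h * g⁻¹)
        (fun e => hne (conj_eq_one_iff.1 e)) hgh
        (by simpa [mul_assoc] using hh)
      exact h')
  haveI := hKn
  have hK1 : 1 < Nat.card K := hc.index_eq_card ▸ one_lt_index hF
  haveI : Nontrivial K := Finite.one_lt_card_iff_nontrivial.1 hK1
  obtain ⟨φ, hφ, -⟩ := exists_fpf_of_normal_complement hF hKH
  rw [card_frobeniusKernel hF, hc.index_eq_card]
  exact odd_square_of_noncyclic hφ p P hP

section Construct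

/-- A power indexed by `ZMod 4`. -/
def pw {M : Type*} [Monoid M] (I : M) (i : ZMod (2 * 2)) : M := I ^ i.val

theorem pw_add {M : Type*} [Monoid M] {I : M} (h : I ^ 4 = 1) (i j : ZMod (2 * 2)) :
    pw I i * pw I j = pw I (i + j) := by
  rw [pw, pw, pw, ← pow_add, ZMod.val_add]
  exact pow_eq_pow_mod _ h

theorem exists_quaternion_hom {M : Type*} [Monoid M] (I J : M) (hI : I ^ 4 = 1) (hJ : J * J = I ^ 2)
    (hIJ : I * J = J * I ^ 3) :
    ∃ σ : QuaternionGroup 2 →* M, σ (.a 2) = I ^ 2 := by
  have hsw : ∀ i : ZMod (2 * 2), pw I i * J = J * pw I (-i) := by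
    have h1 : ∀ k : ℕ, I ^ k * J = J * (I ^ 3) ^ k := by
      intro k
      induction k with
      | zero => simp
      | succ k ih => rw [pow_succ, mul_assoc, hIJ, ← mul_assoc, ih, mul_assoc, ← pow_succ]
    intro i
    rw [pw, pw, h1, ← pow_mul, pow_eq_pow_mod _ hI]
    fin_cases i <;> rfl
  let F : QuaternionGroup 2 → M
    | .a i => pw I i
    | .xa i => J * pw I i
  have h2 : I ^ 2 = pw I (2 : ZMod (2 * 2)) := rfl
  refine ⟨MonoidHom.mk ⟨F, show pw I (0 : ZMod (2 * 2)) = 1 from pow_zero I⟩ ?_, rfl⟩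
  rintro (i | i) (j | j)
  · exact (pw_add hI i j).symm
  · show J * pw I (j - i) = pw I i * (J * pw I j)
    rw [← mul_assoc, hsw, mul_assoc, pw_add hI, neg_add_eq_sub]
  · show J * pw I (i + j) = J * pw I i * pw I j
    rw [mul_assoc, pw_add hI]
  · show pw I ((2 : ZMod (2 * 2)) + j - i) = J * pw I i * (J * pw I j)
    rw [mul_assoc, ← mul_assoc (pw I i), hsw, mul_assoc J, pw_add hI, ← mul_assoc, hJ, h2,
      pw_add hI]
    congr 1
    ring

/-- For every odd `k` the quaternion group acts on a group of order `k ^ 2` with the involution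
acting as `-1`. -/
theorem exists_action : ∀ k : ℕ, Odd k → ∃ (V : Type) (_ : AddCommGroup V) (_ : Finite V)
    (σ : QuaternionGroup 2 →* AddMonoid.End V), Nat.card V = k ^ 2 ∧ ∀ v, σ (.a 2) v = -v := by
  intro k
  induction k using Nat.strong_induction_on with
  | _ k ih =>
    intro hk
    by_cases h1 : k = 1
    · subst h1
      exact ⟨PUnit, inferInstance, inferInstance, 1, by simp, fun v => Subsingleton.elim _ _⟩
    obtain ⟨p, hp, hpk⟩ := Nat.exists_prime_and_dvd h1
    haveI := Fact.mk hp
    obtain ⟨k', rfl⟩ := hpk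
    have hk' : Odd k' := (Nat.odd_mul.1 hk).2
    have hlt : k' < p * k' := lt_mul_left (Nat.odd_mul.1 hk).2.pos hp.one_lt
    obtain ⟨V, _, _, σ, hV, hσ⟩ := ih k' hlt hk'
    obtain ⟨a, b, hab⟩ := ZMod.sq_add_sq p (-1)
    let I : Matrix (Fin 2) (Fin 2) (ZMod p) := !![0, -1; 1, 0]
    let J : Matrix (Fin 2) (Fin 2) (ZMod p) := !![a, b; b, -a]
    have hI2 : I ^ 2 = -1 := by
      ext i j; fin_cases i <;> fin_cases j <;> simp [I, sq, Matrix.mul_apply, Fin.sum_univ_two]
    have hJ2 : J * J = I ^ 2 := by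
      rw [hI2]
      ext i j
      fin_cases i <;> fin_cases j <;> simp [J, Matrix.mul_apply, Fin.sum_univ_two] <;>
        first | linear_combination hab | linear_combination -hab | ring
    have hI4 : I ^ 4 = 1 := by
      rw [show 4 = 2 * 2 from rfl, pow_mul, hI2, neg_one_sq]
    have hIJ : I * J = J * I ^ 3 := by
      rw [show 3 = 2 + 1 from rfl, pow_succ, hI2, neg_one_mul]
      ext i j
      fin_cases i <;> fin_cases j <;> simp [I, J, Matrix.mul_apply, Fin.sum_univ_two]
    obtain ⟨τ, hτ⟩ := exists_quaternion_hom I J hI4 hJ2 hIJ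
    let ρ : QuaternionGroup 2 →* AddMonoid.End ((Fin 2 → ZMod p) × V) :=
      { toFun := fun q =>
          ({ toFun := fun v => ((τ q).mulVec v.1, σ q v.2)
             map_zero' := by simp
             map_add' := fun v w => by simp [Matrix.mulVec_add] } :
            ((Fin 2 → ZMod p) × V) →+ ((Fin 2 → ZMod p) × V))
        map_one' := by
          refine AddMonoidHom.ext fun v => ?_
          show ((τ 1).mulVec v.1, σ 1 v.2) = v
          rw [map_one, map_one, Matrix.one_mulVec]
          rfl
        map_mul' := fun x y => by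
          refine AddMonoidHom.ext fun v => ?_
          show ((τ (x * y)).mulVec v.1, σ (x * y) v.2) = ((τ x).mulVec ((τ y).mulVec v.1), σ x (σ y v.2))
          rw [map_mul, map_mul, Matrix.mulVec_mulVec]
          rfl }
    refine ⟨(Fin 2 → ZMod p) × V, inferInstance, inferInstance, ρ, ?_, fun v => ?_⟩
    · rw [Nat.card_prod, Nat.card_fun, Nat.card_fin, Nat.card_zmod, hV]; ring
    · show ((τ (.a 2)).mulVec v.1, σ (.a 2) v.2) = -v
      rw [hτ, hI2, hσ, Matrix.neg_mulVec, Matrix.one_mulVec]
      rfl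

theorem eq_one_or_sq (q : QuaternionGroup 2) : q = 1 ∨ q = .a 2 ∨ q * q = .a 2 := by
  revert q
  rintro (i | i) <;> fin_cases i <;> decide

theorem exists_group (k : ℕ) (hk : Odd k) (hk1 : 1 < k) :
    ∃ (L : Type) (_ : Group L) (_ : Finite L) (C : Subgroup L), Cfsg.IsFrobeniusComplement C ∧
      Nonempty (C ≃* QuaternionGroup 2) ∧ Nat.card (Cfsg.frobeniusKernel C) = k ^ 2 := by
  obtain ⟨V, _, _, σ, hV, hσ⟩ := exists_action k hk
  haveI : Nontrivial V := Finite.one_lt_card_iff_nontrivial.1 (by rw [hV]; exact Nat.one_lt_pow two_ne_zero hk1)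
  have hfix : ∀ q : QuaternionGroup 2, q ≠ 1 → ∀ v : V, σ q v = v → v = 0 := by
    intro q hq v hv
    have hneg : -v = v := by
      rcases (eq_one_or_sq q).resolve_left hq with h | h
      · rw [← hσ v, ← h]; exact hv
      · have h2 : σ (q * q) v = v := by
          rw [map_mul]
          show σ q (σ q v) = v
          rw [hv, hv]
        rw [← hσ v, ← h]; exact h2
    have h2v : (2 : ℕ) • v = 0 := by rw [two_nsmul]; nth_rw 1 [← hneg]; exact neg_add_cancel v
    by_contra hv0
    have hd := addOrderOf_eq_prime h2v hv0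
    have h2k : 2 ∣ k ^ 2 := hV ▸ hd ▸ addOrderOf_dvd_natCard v
    exact Nat.not_even_iff_odd.2 hk (even_iff_two_dvd.2 (Nat.prime_two.dvd_of_dvd_pow h2k))
  obtain ⟨L, hG, hF, C, hC, ⟨e⟩, hcard⟩ := CfsgLib.Frobenius.exists_complement_of_addRep σ hfix
  exact ⟨L, hG, hF, C, hC, ⟨e.symm⟩, hcard.trans hV⟩

end Construct

end CfsgLib.Frobenius.QuatKernel
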